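import Cfsg.Agent.Lib.PrimeGraphFour.Tools
import Cfsg.Agent.Lib.Cores
import Cfsg.Agent.Lib.Frobenius.UniqueSubgroup

/-!
Basic consequences of the absence of commuting triples, and the final step with cyclic cores.
-/

set_option autoImplicit false

open Subgroup
open scoped commutatorElement

universe u

namespace Cfsg.Agent.Lib.PrimeGraphFour

open Cfsg.Agent.Lib

variable {G : Type u} [Group G] [Finite G]

/-- No three pairwise commuting elements of distinct prime orders in `S`. -/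
def NoTriple (G : Type u) [Group G] (S : Set ℕ) : Prop :=
  ∀ p q r : ℕ, p ∈ S → q ∈ S → r ∈ S → p ≠ q → q ≠ r → p ≠ r → ∀ x y z : G,
    orderOf x = p → orderOf y = q → orderOf z = r → Commute x y → Commute x z → Commute y z → False

theorem elem_commute {p : ℕ} {V : Subgroup G} (hV : Cfsg.IsElementaryAbelian p V) :
    ∀ a ∈ V, ∀ b ∈ V, Commute a b := fun a ha b hb =>
  congrArg Subtype.val (hV.1.1.comm ⟨a, ha⟩ ⟨b, hb⟩)

theorem elem_order {p : ℕ} (hp : p.Prime) {V : Subgroup G} (hV : Cfsg.IsElementaryAbelian p V) {v : G}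
    (hv : v ∈ V) (hv1 : v ≠ 1) : orderOf v = p :=
  haveI := Fact.mk hp
  orderOf_eq_prime (hV.2 v hv) hv1

theorem elem_not_dvd {p t : ℕ} (hp : p.Prime) (ht : t.Prime) (htp : t ≠ p) {V : Subgroup G}
    (hV : Cfsg.IsElementaryAbelian p V) : ¬ t ∣ Nat.card V := by
  haveI := Fact.mk hp
  have h : IsPGroup p V := fun v => ⟨1, Subtype.ext (by simpa using hV.2 v v.2)⟩
  obtain ⟨n, hn⟩ := IsPGroup.iff_card.mp h
  rw [hn]
  exact fun hd => htp ((Nat.prime_dvd_prime_iff_eq ht hp).mp (ht.dvd_of_dvd_pow hd))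

theorem elem_coprime {p t : ℕ} (hp : p.Prime) (ht : t.Prime) (htp : t ≠ p) {U V : Subgroup G}
    (hU : Cfsg.IsElementaryAbelian t U) (hV : Cfsg.IsElementaryAbelian p V) :
    (Nat.card U).Coprime (Nat.card V) :=
  Nat.coprime_of_dvd fun k hk h1 h2 => by
    by_cases hkt : k = t
    · exact elem_not_dvd hp ht htp hV (hkt ▸ h2)
    · exact elem_not_dvd ht hk hkt hU h1

theorem elem_le {p : ℕ} {U V : Subgroup G} (h : U ≤ V) (hV : Cfsg.IsElementaryAbelian p V) :
    Cfsg.IsElementaryAbelian p U :=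
  ⟨⟨⟨fun a b => Subtype.ext (elem_commute hV a (h a.2) b (h b.2)).eq⟩⟩, fun a ha => hV.2 a (h ha)⟩

theorem not_dvd_of_order {t : ℕ} {U : Subgroup G} {a : G} (ha : orderOf a = t) (haU : a ∈ U) :
    t ∣ Nat.card U := ha ▸ _root_.Subgroup.orderOf_dvd_natCard U haU

theorem le_normalizer_of_conj {J X : Subgroup G} (h : ∀ g ∈ J, ∀ x ∈ X, g * x * g⁻¹ ∈ X) :
    J ≤ normalizer (X : Set G) := fun g hg => mem_normalizer_fintype (h g hg)

theorem conj_mem_of_le_normalizer {J X : Subgroup G} (h : J ≤ normalizer (X : Set G)) {g x : G}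
    (hg : g ∈ J) (hx : x ∈ X) : g * x * g⁻¹ ∈ X := (mem_normalizer_iff.mp (h hg) x).mp hx

theorem le_normalizer_inf_centralizer {J U V : Subgroup G} (hU : J ≤ normalizer (U : Set G))
    (hV : J ≤ normalizer (V : Set G)) :
    J ≤ normalizer ((V ⊓ centralizer (U : Set G) : Subgroup G) : Set G) :=
  le_normalizer_of_conj fun g hg x hx =>
    ⟨conj_mem_of_le_normalizer hV hg hx.1, mem_centralizer_iff.mpr fun w hw => by
      have h1 : g⁻¹ * w * g ∈ U := by
        have := conj_mem_of_le_normalizer hU (inv_mem hg) hw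
        rwa [inv_inv] at this
      have h2 := mem_centralizer_iff.mp hx.2 _ h1
      calc w * (g * x * g⁻¹) = g * ((g⁻¹ * w * g) * x) * g⁻¹ := by group
        _ = g * (x * (g⁻¹ * w * g)) * g⁻¹ := by rw [h2]
        _ = g * x * g⁻¹ * w := by group⟩

/-- A minimal invariant nontrivial subgroup. -/
theorem exists_min_inv {J V : Subgroup G} (hV : V ≠ ⊥) (hJ : J ≤ normalizer (V : Set G)) :
    ∃ W : Subgroup G, W ≤ V ∧ W ≠ ⊥ ∧ J ≤ normalizer (W : Set G) ∧
      ∀ U : Subgroup G, U ≤ W → J ≤ normalizer (U : Set G) → U = ⊥ ∨ U = W := by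
  obtain ⟨W, hWV, ⟨hW1, hWJ⟩, hmin⟩ := (Set.toFinite {W : Subgroup G | W ≠ ⊥ ∧
    J ≤ normalizer (W : Set G)}).exists_le_minimal (a := V) ⟨hV, hJ⟩
  exact ⟨W, hWV, hW1, hWJ, fun U hU hUJ => or_iff_not_imp_left.mpr fun hU1 =>
    le_antisymm hU (hmin ⟨hU1, hUJ⟩ hU)⟩

/-- An invariant elementary subgroup inside a nontrivial invariant subgroup of a solvable group. -/
theorem exists_elem_normal {J N : Subgroup G} (hs : Group.IsSolvable J) (hNJ : N ≤ J)
    (hn : J ≤ normalizer (N : Set G)) (hN : N ≠ ⊥) :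
    ∃ (t : ℕ) (U : Subgroup G), t.Prime ∧ Cfsg.IsElementaryAbelian t U ∧ U ≠ ⊥ ∧ U ≤ N ∧
      J ≤ normalizer (U : Set G) ∧ t ∣ Nat.card N := by
  haveI : (N.subgroupOf J).Normal := (normal_subgroupOf_iff_le_normalizer hNJ).mpr hn
  obtain ⟨t, M, ht, hMn, hM1, hMN, hMc, -, hMe⟩ := Coprime.exists_normal_abelian_pgroup_le
    (N := N.subgroupOf J) (fun h => hN (by
      rw [← map_subgroupOf_eq_of_le hNJ, h, Subgroup.map_bot])) inferInstance
  obtain ⟨m, hm, hm1⟩ := (Subgroup.bot_or_exists_ne_one M).resolve_left hM1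
  haveI := Fact.mk ht
  refine ⟨t, M.map J.subtype, ht, ⟨⟨⟨?_⟩⟩, ?_⟩, ?_, ?_, ?_, ?_⟩
  · rintro ⟨_, a, ha, rfl⟩ ⟨_, b, hb, rfl⟩
    exact Subtype.ext (congrArg (fun x : M => ((x : J) : G)) (hMc.1.comm ⟨a, ha⟩ ⟨b, hb⟩))
  · rintro _ ⟨a, ha, rfl⟩
    rw [← map_pow, hMe a ha, map_one]
  · exact fun h => hM1 ((map_eq_bot_iff_of_injective _ J.subtype_injective).mp h)
  · rw [← map_subgroupOf_eq_of_le hNJ]
    exact Subgroup.map_mono hMN
  · refine le_normalizer_of_conj ?_
    rintro g hg _ ⟨a, ha, rfl⟩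
    exact ⟨_, hMn.conj_mem a ha ⟨g, hg⟩, rfl⟩
  · have hmo : orderOf m = t := orderOf_eq_prime (hMe m hm) hm1
    rw [← hmo, ← orderOf_injective J.subtype J.subtype_injective m]
    exact _root_.Subgroup.orderOf_dvd_natCard N (hMN hm)

/-- An elementary subgroup without a pair is a single line. -/
theorem line_of_no_pair {t : ℕ} (ht : t.Prime) {U : Subgroup G} (hU : Cfsg.IsElementaryAbelian t U)
    (hU1 : U ≠ ⊥) (hno : ¬ ∃ a ∈ U, ∃ b ∈ U, Pair t a b) :
    ∃ a, orderOf a = t ∧ U = zpowers a := by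
  obtain ⟨a, ha, ha1⟩ := (Subgroup.bot_or_exists_ne_one U).resolve_left hU1
  have hao := elem_order ht hU ha ha1
  refine ⟨a, hao, le_antisymm (fun b hb => ?_) (zpowers_le.mpr ha)⟩
  by_cases hb1 : b = 1
  · rw [hb1]; exact one_mem _
  · rcases exists_pair_or t U with h | h
    · exact absurd h hno
    · exact h a ha b hb hao (elem_order ht hU hb hb1) (elem_commute hU a ha b hb)

/-- A `t`-subgroup without pairs has a single subgroup of order `t`. -/
theorem unique_of_no_pair {t : ℕ} (ht : t.Prime) {X : Subgroup G} (hX : IsPGroup t X)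
    (h : ∀ a ∈ X, ∀ b ∈ X, orderOf a = t → orderOf b = t → Commute a b → b ∈ zpowers a) :
    ∀ a ∈ X, ∀ b ∈ X, orderOf a = t → orderOf b = t → b ∈ zpowers a := by
  intro a ha b hb hao hbo
  haveI := Fact.mk ht
  haveI : Nontrivial X := ⟨⟨⟨a, ha⟩, 1, fun e => ht.ne_one (by
    rw [← hao, show a = 1 from congrArg Subtype.val e, orderOf_one])⟩⟩
  haveI := hX.center_nontrivial
  obtain ⟨z, hz⟩ := exists_prime_orderOf_dvd_card' (G := center X) t (by
    obtain ⟨n, hn⟩ := IsPGroup.iff_card.mp (hX.to_subgroup (center X))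
    have h1 : 1 < Nat.card (center X) := Finite.one_lt_card
    rw [hn] at h1 ⊢
    exact dvd_pow_self t fun h0 => by rw [h0, pow_zero] at h1; exact lt_irrefl _ h1)
  have hzo : orderOf ((z : X) : G) = t := by rw [Subgroup.orderOf_coe, Subgroup.orderOf_coe, hz]
  have hzc : ∀ c ∈ X, Commute c ((z : X) : G) := fun c hc =>
    congrArg Subtype.val (mem_center_iff.mp z.2 ⟨c, hc⟩)
  have hza : ((z : X) : G) ∈ zpowers a := h a ha _ (z : X).2 hao hzo (hzc a ha)
  have hbz : b ∈ zpowers ((z : X) : G) := h _ (z : X).2 b hb hzo hbo (hzc b hb).symm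
  exact zpowers_le.mpr hza hbz

theorem isCyclic_of_no_pair {t : ℕ} (ht : t.Prime) (h2 : t ≠ 2) {X : Subgroup G} (hX : IsPGroup t X)
    (h : ∀ a ∈ X, ∀ b ∈ X, orderOf a = t → orderOf b = t → Commute a b → b ∈ zpowers a) :
    IsCyclic X := by
  haveI := Fact.mk ht
  refine Frobenius.isCyclic_of_unique_odd h2 hX fun a b ha hb => ?_
  obtain ⟨i, hi⟩ := mem_zpowers_iff.mp (unique_of_no_pair ht hX h b b.2 a a.2
    (by rw [Subgroup.orderOf_coe, hb]) (by rw [Subgroup.orderOf_coe, ha]))
  exact mem_zpowers_iff.mpr ⟨i, Subtype.ext (by rw [SubgroupClass.coe_zpow]; exact hi)⟩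

/-- The `t`-core of a subgroup. -/
def core (t : ℕ) (J : Subgroup G) : Subgroup G := (Cfsg.pCore t J).map J.subtype

theorem core_le (t : ℕ) (J : Subgroup G) : core t J ≤ J := map_subtype_le _

theorem core_isPGroup (t : ℕ) (J : Subgroup G) : IsPGroup t (core t J) :=
  (Cores.pCore_isPGroup t J).map _

theorem le_normalizer_core (t : ℕ) (J : Subgroup G) : J ≤ normalizer (core t J : Set G) :=
  le_normalizer_of_conj fun g hg => by
    rintro _ ⟨a, ha, rfl⟩
    exact ⟨_, (Cfsg.pCore_normal t J).conj_mem a ha ⟨g, hg⟩, rfl⟩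

theorem isCyclic_core_iff (t : ℕ) (J : Subgroup G) :
    IsCyclic (core t J) ↔ IsCyclic (Cfsg.pCore t J) :=
  ((Cfsg.pCore t J).equivMapOfInjective _ J.subtype_injective).isCyclic.symm

/-- A solvable group all whose cores are cyclic has cyclic Sylow subgroups for its largest prime. -/
theorem cyclic_cores_false {Γ : Type u} [Group Γ] [Finite Γ] (hs : Group.IsSolvable Γ) {t : ℕ}
    (ht : t.Prime) (hmax : ∀ w : ℕ, w.Prime → w ∣ Nat.card Γ → w ≤ t)
    (hcyc : ∀ w : ℕ, w.Prime → IsCyclic (Cfsg.pCore w Γ)) {a b : Γ} (hab : Pair t a b) : False := by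
  classical
  haveI := Fact.mk ht
  -- the action on each core commutes
  have hcommAut : ∀ w : ℕ, w.Prime → ∀ g h : Γ, ∀ c ∈ Cfsg.pCore w Γ,
      g * (h * c * h⁻¹) * g⁻¹ = h * (g * c * g⁻¹) * h⁻¹ := by
    intro w hw g h c hc
    haveI := hcyc w hw
    obtain ⟨m, hm⟩ := MonoidHom.map_cyclic
      (MulAut.conjNormal (H := Cfsg.pCore w Γ) g).toMonoidHom
    obtain ⟨n, hn⟩ := MonoidHom.map_cyclic
      (MulAut.conjNormal (H := Cfsg.pCore w Γ) h).toMonoidHom
    have e1 : ∀ d ∈ Cfsg.pCore w Γ, g * d * g⁻¹ = d ^ m := fun d hd => by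
      have := congrArg Subtype.val (hm ⟨d, hd⟩)
      simpa using this
    have e2 : ∀ d ∈ Cfsg.pCore w Γ, h * d * h⁻¹ = d ^ n := fun d hd => by
      have := congrArg Subtype.val (hn ⟨d, hd⟩)
      simpa using this
    rw [e2 c hc, e1 _ (Subgroup.zpow_mem _ hc n), e1 c hc, e2 _ (Subgroup.zpow_mem _ hc m),
      ← _root_.zpow_mul, ← _root_.zpow_mul, mul_comm]
  -- elements of order `t` lie in `O_t`
  have key : ∀ e : Γ, orderOf e = t → e ∈ Cfsg.pCore t Γ := by
    intro e he
    have hcent : ∀ w : ℕ, w.Prime → w ≠ t → ∀ c ∈ Cfsg.pCore w Γ, Commute e c := by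
      intro w hw hwt c hc
      rcases eq_or_ne c 1 with rfl | hc1
      · exact Commute.one_right _
      haveI := Fact.mk hw
      haveI := hcyc w hw
      obtain ⟨k, hk⟩ := IsPGroup.iff_card.mp (Cores.pCore_isPGroup w Γ)
      have hwdvd : w ∣ Nat.card Γ := by
        refine dvd_trans ?_ (Subgroup.card_subgroup_dvd_card (Cfsg.pCore w Γ))
        rw [hk]
        refine dvd_pow_self w fun h0 => hc1 ?_
        rw [h0, pow_zero] at hk
        exact Subgroup.mem_bot.mp (Subgroup.eq_bot_of_card_eq _ hk ▸ hc)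
      set α := MulAut.conjNormal (H := Cfsg.pCore w Γ) e with hα
      have hαt : α ^ t = 1 := by rw [hα, ← map_pow, ← he, pow_orderOf_eq_one, map_one]
      have h1 : α = 1 := by
        rcases ht.eq_one_or_self_of_dvd _ (orderOf_dvd_of_pow_eq_one hαt) with h | h
        · exact orderOf_eq_one_iff.mp h
        · exfalso
          have hd := h ▸ (orderOf_dvd_natCard α)
          rw [IsCyclic.card_mulAut, hk] at hd
          have hwle := lt_of_le_of_ne (hmax w hw hwdvd) hwt
          rcases Nat.eq_zero_or_pos k with rfl | hk0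
          · rw [pow_zero, Nat.totient_one] at hd
            exact ht.ne_one (Nat.dvd_one.mp hd)
          · rw [Nat.totient_prime_pow hw hk0] at hd
            rcases ht.dvd_mul.mp hd with h | h
            · exact hwt ((Nat.prime_dvd_prime_iff_eq ht hw).mp (ht.dvd_of_dvd_pow h)).symm
            · have := Nat.le_of_dvd (by have := hw.two_le; omega) h
              omega
      have := congrArg Subtype.val (MulEquiv.congr_fun h1 ⟨c, hc⟩)
      exact mul_inv_eq_iff_eq_mul.mp (by simpa [hα] using this)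
    have hcomm : ∀ g : Γ, ⁅g, e⁆ ∈ Cfsg.fittingSubgroup Γ := by
      intro g
      apply Cores.centralizer_fittingSubgroup_le hs
      rw [mem_centralizer_iff]
      have hle : Cfsg.fittingSubgroup Γ ≤ centralizer {⁅g, e⁆} := by
        refine Cores.fittingSubgroup_le_of_pCore_le fun w hw c hc => mem_centralizer_singleton_iff.mpr ?_
        have h' := hcommAut w hw g e ((e * g)⁻¹ * c * (e * g))
          ((Cfsg.pCore_normal w Γ).conj_mem' c hc _)
        have h2 : ⁅g, e⁆ * c * ⁅g, e⁆⁻¹ = c := by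
          calc ⁅g, e⁆ * c * ⁅g, e⁆⁻¹ = g * (e * ((e * g)⁻¹ * c * (e * g)) * e⁻¹) * g⁻¹ := by
                rw [commutatorElement_def]; group
            _ = e * (g * ((e * g)⁻¹ * c * (e * g)) * g⁻¹) * e⁻¹ := h'
            _ = c := by group
        exact (mul_inv_eq_iff_eq_mul.mp h2).symm
      intro c hc
      exact mem_centralizer_singleton_iff.mp (hle hc)
    set F := Cfsg.fittingSubgroup Γ with hF
    set S := F ⊔ zpowers e with hS
    have heS : e ∈ S := mem_sup_right (mem_zpowers e)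
    have hSn : S.Normal := by
      have hFn : F.Normal := Cores.fittingSubgroup_normal Γ
      have hle : ∀ g : Γ, S ≤ S.comap (MulAut.conj g).toMonoidHom := fun g => sup_le
        (fun f hf => mem_sup_left (hFn.conj_mem f hf g)) (zpowers_le.mpr (by
          show g * e * g⁻¹ ∈ S
          rw [show g * e * g⁻¹ = ⁅g, e⁆ * e by rw [commutatorElement_def]; group]
          exact mul_mem (mem_sup_left (hcomm g)) heS))
      exact ⟨fun s hs g => hle g hs⟩
    -- `S` is nilpotent
    set T := Cfsg.pCore t Γ ⊔ zpowers e with hT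
    have hTp : IsPGroup t T := (Cores.pCore_isPGroup t Γ).to_sup_of_normal_left
      (IsPGroup.of_card (n := 1) (by rw [Nat.card_zpowers, he, pow_one]))
    have hTS : T ≤ S := sup_le ((Cores.pCore_le_fittingSubgroup t).trans le_sup_left) le_sup_right
    have hTn : T.Normal := by
      have hle : S ≤ normalizer (T : Set Γ) := by
        refine sup_le (Cores.fittingSubgroup_le_of_pCore_le fun w hw => ?_)
          (zpowers_le.mpr (le_normalizer (mem_sup_right (mem_zpowers e))))
        by_cases hwt : w = t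
        · exact hwt ▸ le_sup_left.trans le_normalizer
        · refine le_trans (fun c hc => ?_) (centralizer_le_normalizer (s := (T : Set Γ)))
          refine mem_centralizer_iff.mpr fun x hx => ?_
          have hle : T ≤ centralizer {c} := sup_le (fun y hy => mem_centralizer_singleton_iff.mpr ?_)
            (zpowers_le.mpr (mem_centralizer_singleton_iff.mpr (hcent w hw hwt c hc).eq))
          · exact mem_centralizer_singleton_iff.mp (hle hx)
          · haveI := Fact.mk hw
            exact (Subgroup.commute_of_normal_of_disjoint _ _ (Cfsg.pCore_normal t Γ)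
              (Cfsg.pCore_normal w Γ) (IsPGroup.disjoint_of_ne t w
                (Ne.symm hwt) _ _ (Cores.pCore_isPGroup t Γ) (Cores.pCore_isPGroup w Γ)) y c hy hc).eq
      have hTSn : (T.subgroupOf S).Normal := (normal_subgroupOf_iff_le_normalizer hTS).mpr hle
      have hsn : T.IsSubnormal := IsSubnormal.step T S hTS hSn.isSubnormal hTSn
      have hTle := Cores.le_pCore_of_isSubnormal hsn hTp
      have : T = Cfsg.pCore t Γ := le_antisymm hTle le_sup_left
      rw [this]; exact Cfsg.pCore_normal t Γ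
    exact Cores.le_pCore hTn hTp (mem_sup_right (mem_zpowers e))
  have hle : pairGroup a b ≤ Cfsg.pCore t Γ := pairGroup_le (key a hab.1) (key b hab.2.1)
  haveI := hcyc t ht
  exact hab.not_isCyclic ht (isCyclic_of_le hle)

end Cfsg.Agent.Lib.PrimeGraphFour
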