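import Cfsg.Agent.Lib.PrimeGraphFour.CaseB
import Cfsg.Agent.Lib.OddLocal.Coprime

/-!
A three-prime group acting faithfully and irreducibly on a module, without commuting triples.
-/

set_option autoImplicit false

open Subgroup
open scoped commutatorElement

universe u

namespace Cfsg.Agent.Lib.PrimeGraphFour

open Cfsg.Agent.Lib

variable {G : Type u} [Group G] [Finite G]

/-- The hypotheses of the faithful case. -/
structure SetupA (S : Set ℕ) (p : ℕ) (K V : Subgroup G) : Prop where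
  hT : NoTriple G S
  hp : p.Prime
  hpS : p ∈ S
  hV : Cfsg.IsElementaryAbelian p V
  hV1 : V ≠ ⊥
  hKV : K ≤ normalizer (V : Set G)
  hmin : ∀ U : Subgroup G, U ≤ V → K ≤ normalizer (U : Set G) → U = ⊥ ∨ U = V
  hfaith : K ⊓ centralizer (V : Set G) = ⊥
  hKs : Group.IsSolvable K
  hK : ∀ w : ℕ, w.Prime → w ∣ Nat.card K → w ∈ S ∧ w ≠ p
  hJ : ∀ t u : ℕ, t.Prime → u.Prime → t ∈ S → u ∈ S → t ≠ p → u ≠ p → t ≠ u →
    ∃ J : Subgroup G, J ≤ K ∧ (∀ w : ℕ, w.Prime → w ∣ Nat.card J → w = t ∨ w = u) ∧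
      (∃ a ∈ J, ∃ b ∈ J, Pair t a b) ∧ (∃ a ∈ J, ∃ b ∈ J, Pair u a b) ∧
      (∃ a ∈ J, ∃ b ∈ J, orderOf a = t ∧ orderOf b = u ∧ Commute a b)

theorem conj_mem_centralizer_singleton {u e x : G} (hue : Commute u e)
    (hx : x ∈ centralizer ({e} : Set G)) : u * x * u⁻¹ ∈ centralizer ({e} : Set G) := by
  have h1 : Commute e x := (mem_centralizer_singleton_iff.mp hx).symm
  exact mem_centralizer_singleton_iff.mpr
    (((hue.symm.mul_right h1).mul_right hue.symm.inv_right).eq).symm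

theorem commute_of_generator {r : ℕ} (hr : r.Prime) {a e : G} (ha : orderOf a = r) {x : G}
    (hx : x ∈ zpowers a) (hx1 : x ≠ 1) (hc : Commute e x) : Commute e a := by
  obtain ⟨i, rfl⟩ := (isOfFinOrder_of_finite a).mem_powers_iff_mem_zpowers.mpr hx
  have hi : ¬ r ∣ i := fun hd => hx1 (by
    obtain ⟨k, rfl⟩ := hd
    show a ^ (r * k) = 1
    rw [pow_mul, ← ha, pow_orderOf_eq_one, one_pow])
  obtain ⟨k, hk⟩ := exists_pow_eq_self_of_coprime (x := a) (n := i)
    (ha.symm ▸ (hr.coprime_iff_not_dvd.mpr hi).symm)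
  rw [← hk]
  exact Commute.pow_right hc k

/-- An operator of prime order `t` fixing `z` cannot shear modulo `⟨z⟩`. -/
theorem commute_of_shear {t q : ℕ} (ht : t.Prime) (hq : q.Prime) (htq : t ≠ q) {z u y : G}
    (hz : orderOf z = q) (hu : orderOf u = t) (huz : Commute u z)
    (h : u * y * u⁻¹ * y⁻¹ ∈ zpowers z) : Commute u y := by
  obtain ⟨i, hi⟩ := (isOfFinOrder_of_finite z).mem_powers_iff_mem_zpowers.mpr h
  have hi' : u * y * u⁻¹ = z ^ i * y := by
    rw [show z ^ i = u * y * u⁻¹ * y⁻¹ from hi, inv_mul_cancel_right]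
  have h1 : ∀ k : ℕ, u ^ k * y * (u ^ k)⁻¹ = z ^ (i * k) * y := by
    intro k
    induction k with
    | zero => simp
    | succ k ih =>
      calc u ^ (k + 1) * y * (u ^ (k + 1))⁻¹ = u * (u ^ k * y * (u ^ k)⁻¹) * u⁻¹ := by
            rw [pow_succ']; group
        _ = (u * z ^ (i * k)) * y * u⁻¹ := by rw [ih]; group
        _ = z ^ (i * k) * (u * y * u⁻¹) := by rw [(huz.pow_right _).eq]; group
        _ = z ^ (i * (k + 1)) * y := by rw [hi', ← mul_assoc, ← pow_add, Nat.mul_succ]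
  have h2 := h1 t
  rw [← hu, pow_orderOf_eq_one, one_mul, inv_one, mul_one, hu] at h2
  have h3 : z ^ (i * t) = 1 := mul_eq_right.mp h2.symm
  have hd : q ∣ i := by
    rcases hq.dvd_mul.mp (hz ▸ orderOf_dvd_of_pow_eq_one h3) with h | h
    · exact h
    · exact absurd ((Nat.prime_dvd_prime_iff_eq hq ht).mp h).symm htq
  obtain ⟨k, rfl⟩ := hd
  rw [pow_mul, ← hz, pow_orderOf_eq_one, one_pow, one_mul] at hi'
  exact mul_inv_eq_iff_eq_mul.mp hi'

/-- An element acting on a group of smaller prime order centralizes it. -/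
theorem commute_of_prime_lt {r s : ℕ} (hr : r.Prime) (hs : s.Prime) (hrs : s < r) {c g : G}
    (hc : orderOf c = s) (hg : orderOf g = r) (hgn : g ∈ normalizer (zpowers c : Set G)) :
    Commute g c := by
  set α := (zpowers c).normalizerMonoidHom ⟨g, hgn⟩ with hα
  have hαr : α ^ r = 1 := by
    rw [hα, ← map_pow, show (⟨g, hgn⟩ : normalizer (zpowers c : Set G)) ^ r = 1 from
      Subtype.ext (by rw [SubmonoidClass.coe_pow, ← hg, pow_orderOf_eq_one]; rfl), map_one]
  have h1 : α = 1 := by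
    rcases hr.eq_one_or_self_of_dvd _ (orderOf_dvd_of_pow_eq_one hαr) with h | h
    · exact orderOf_eq_one_iff.mp h
    · exfalso
      have hd := h ▸ (orderOf_dvd_natCard α)
      rw [IsCyclic.card_mulAut, Nat.card_zpowers, hc, Nat.totient_prime hs] at hd
      have := Nat.le_of_dvd (by have := hs.two_le; omega) hd
      omega
  have := congrArg Subtype.val (MulEquiv.congr_fun h1 ⟨c, mem_zpowers c⟩)
  exact mul_inv_eq_iff_eq_mul.mp this

variable {S : Set ℕ} {p : ℕ} {K V : Subgroup G}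

namespace SetupA

/-- A three-element commuting family with a vector. -/
theorem triple (h : SetupA S p K V) {t u : ℕ} (ht : t ∈ S) (hu : u ∈ S) (htp : t ≠ p) (hup : u ≠ p)
    (htu : t ≠ u) {x y v : G} (hx : orderOf x = t) (hy : orderOf y = u) (hv : v ∈ V) (hv1 : v ≠ 1)
    (hxy : Commute x y) (hxv : Commute x v) (hyv : Commute y v) : False :=
  h.hT p t u h.hpS ht hu htp.symm htu hup.symm v x y (elem_order h.hp h.hV hv hv1) hx hy hxv.symm
    hyv.symm hxy

/-- An element moving an elementary subgroup fixes a vector. -/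
theorem out_fix (h : SetupA S p K V) {q t : ℕ} (hq : q.Prime) (ht : t.Prime) (htq : t ≠ q)
    (hqp : q ≠ p) {M : Subgroup G} (hM : Cfsg.IsElementaryAbelian q M) (hMK : M ≤ K)
    (hKM : K ≤ normalizer (M : Set G)) {b : G} (hb : b ∈ K) (hbo : orderOf b = t)
    (hbM : ∃ m ∈ M, ¬ Commute b m) : ∃ v ∈ V, v ≠ 1 ∧ Commute b v := by
  obtain ⟨W, hWM, hW1, hbW, hWfix⟩ := exists_moved M (elem_commute hM) ht hbo (hKM hb)
    (elem_not_dvd hq ht htq hM) hbM
  refine frob_prime V W b ht hbo (elem_commute h.hV) ((hWM.trans hMK).trans h.hKV) (h.hKV hb) hbW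
    hWfix (elem_coprime h.hp hq hqp (elem_le hWM hM) h.hV) fun hc => hW1 ?_
  rw [eq_bot_iff, ← h.hfaith]
  exact fun w hw => ⟨hMK (hWM hw), hc hw⟩

/-- An element centralizing a noncyclic elementary subgroup fixes no vector. -/
theorem in_fpf (h : SetupA S p K V) {q t : ℕ} (hq : q.Prime) (hqS : q ∈ S) (htS : t ∈ S) (htp : t ≠ p)
    (hqp : q ≠ p) (htq : t ≠ q) {M : Subgroup G} (hMK : M ≤ K)
    {c d : G} (hc : c ∈ M) (hd : d ∈ M) (hcd : Pair q c d) {a : G} (hao : orderOf a = t)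
    (haM : ∀ m ∈ M, Commute a m) : ∀ v ∈ V, v ≠ 1 → ¬ Commute a v := by
  intro v hv hv1 hav
  have hnorm : ∀ m ∈ M, m ∈ normalizer ((V ⊓ centralizer ({a} : Set G) : Subgroup G) : Set G) :=
    fun m hm => mem_normalizer_fintype fun x hx =>
      ⟨conj_mem_of_le_normalizer h.hKV (hMK hm) hx.1, conj_mem_centralizer_singleton (haM m hm).symm hx.2⟩
  obtain ⟨e, he, he1, w, hw, hw1, hew⟩ := hcd.fix hq (hnorm c hc) (hnorm d hd)
    (fun hh => elem_not_dvd h.hp hq hqp h.hV (hh.trans (card_dvd_of_le inf_le_left)))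
    (fun hh => hv1 (mem_bot.mp (hh ▸ (⟨hv, mem_centralizer_singleton_iff.mpr hav.eq.symm⟩ :
      v ∈ V ⊓ centralizer ({a} : Set G)))))
  exact h.triple hqS htS hqp htp htq.symm (hcd.orderOf_eq hq he he1) hao hw.1 hw1
    (haM e (pairGroup_le hc hd he)).symm hew (mem_centralizer_singleton_iff.mp hw.2).symm

theorem not_both_out (h : SetupA S p K V) {q r s : ℕ} (hq : q.Prime) (hr : r.Prime) (hs : s.Prime)
    (hqS : q ∈ S) (hrS : r ∈ S) (hsS : s ∈ S) (hqp : q ≠ p) (hrp : r ≠ p) (hsp : s ≠ p)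
    (hqr : q ≠ r) (hqs : q ≠ s) (hrs : r ≠ s)
    {M : Subgroup G} (hM : Cfsg.IsElementaryAbelian q M) (hMK : M ≤ K)
    (hKM : K ≤ normalizer (M : Set G)) {a b : G} (ha : a ∈ K) (hb : b ∈ K) (hao : orderOf a = r)
    (hbo : orderOf b = s) (hab : Commute a b) (haM : ∃ m ∈ M, ¬ Commute a m)
    (hbM : ∃ m ∈ M, ¬ Commute b m) : False := by
  -- each of `a`, `b` acts without fixed points on `M`
  have hfp : ∀ (a b : G) (r s : ℕ), r.Prime → s.Prime → r ∈ S → s ∈ S → r ≠ p → s ≠ p → q ≠ r →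
      q ≠ s → r ≠ s → a ∈ K → b ∈ K → orderOf a = r → orderOf b = s → Commute a b →
      (∃ m ∈ M, ¬ Commute b m) → ∀ m ∈ M, Commute b m → m = 1 := by
    intro a b r s hr hs hrS hsS hrp hsp hqr hqs hrs ha hb hao hbo hab hbM m hm hbm
    by_contra hm1
    obtain ⟨v, hv, hv1, hbv⟩ := h.out_fix hq hs hqs.symm hqp hM hMK hKM hb hbo hbM
    set D := M ⊓ centralizer ({b} : Set G) with hD
    set X := V ⊓ centralizer ({b} : Set G) with hX
    have hvX : v ∈ X := ⟨hv, mem_centralizer_singleton_iff.mpr hbv.eq.symm⟩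
    have hDb : ∀ d ∈ D, Commute d b := fun d hd => mem_centralizer_singleton_iff.mp hd.2
    have hmD : m ∈ D := ⟨hm, mem_centralizer_singleton_iff.mpr hbm.eq.symm⟩
    have hXn : ∀ g ∈ K, Commute g b → g ∈ normalizer (X : Set G) := fun g hg hgb =>
      mem_normalizer_fintype fun x hx =>
        ⟨conj_mem_of_le_normalizer h.hKV hg hx.1, conj_mem_centralizer_singleton hgb hx.2⟩
    have haD : a ∈ normalizer (D : Set G) := mem_normalizer_fintype fun x hx =>
      ⟨conj_mem_of_le_normalizer hKM ha hx.1, conj_mem_centralizer_singleton hab hx.2⟩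
    by_cases hDX : D ≤ centralizer (X : Set G)
    · exact h.triple hqS hsS hqp hsp hqs (elem_order hq hM hm hm1) hbo hv hv1 hbm.symm
        (mem_centralizer_iff.mp (hDX hmD) v hvX).symm hbv
    · obtain ⟨w, hw, hw1, haw⟩ := frob_prime X D a hr hao
        (fun x hx y hy => elem_commute h.hV x hx.1 y hy.1)
        (fun d hd => hXn d (hMK hd.1) (hDb d hd)) (hXn a ha hab) haD
        (fun d hd had => by
          by_contra hd1
          exact h.hT q r s hqS hrS hsS hqr hrs hqs d a b (elem_order hq hM hd.1 hd1) hao hbo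
            had.symm (hDb d hd) hab)
        (elem_coprime h.hp hq hqp (elem_le inf_le_left hM) (elem_le inf_le_left h.hV)) hDX
      exact h.triple hrS hsS hrp hsp hrs hao hbo hw.1 hw1 hab haw
        (mem_centralizer_singleton_iff.mp hw.2).symm
  have hfa := hfp b a s r hs hr hsS hrS hsp hrp hqs hqr hrs.symm hb ha hbo hao hab.symm haM
  have hfb := hfp a b r s hr hs hrS hsS hrp hsp hqr hqs hrs ha hb hao hbo hab hbM
  obtain ⟨v, hv, hv1, hv'⟩ : ∃ v ∈ V, v ≠ 1 ∧ Commute (a * b) v := by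
    refine frob V M (a * b) (n := r * s) (Nat.mul_pos hr.pos hs.pos) ?_ (elem_commute h.hV)
      (hMK.trans h.hKV) (h.hKV (mul_mem ha hb)) (hKM (mul_mem ha hb)) ?_
      (elem_coprime h.hp hq hqp hM h.hV) ?_
    · rw [hab.mul_pow, pow_mul, ← hao, pow_orderOf_eq_one, one_pow, mul_comm (orderOf a), pow_mul,
        ← hbo, pow_orderOf_eq_one, one_pow, one_mul]
    · intro i hi0 hi m hm hfix
      have hc : Commute ((a * b) ^ i) m := mul_inv_eq_iff_eq_mul.mp hfix
      by_cases hri : r ∣ i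
      · have hsi : ¬ s ∣ i := fun hsi =>
          absurd (Nat.le_of_dvd hi0 (((Nat.coprime_primes hr hs).mpr hrs).mul_dvd_of_dvd_of_dvd hri hsi))
            (not_le.mpr hi)
        have h1 := hc.pow_left r
        rw [← pow_mul, hab.mul_pow, mul_comm i r, pow_mul a, ← hao, pow_orderOf_eq_one, one_pow,
          one_mul, hao] at h1
        by_contra hm1
        obtain ⟨k, hk⟩ := exists_pow_eq_self_of_coprime (x := b) (n := r * i)
          (hbo.symm ▸ (Nat.Coprime.mul_left ((Nat.coprime_primes hr hs).mpr hrs)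
            (hs.coprime_iff_not_dvd.mpr hsi).symm))
        exact hm1 (hfb m hm (hk ▸ h1.pow_left k))
      · have h1 := hc.pow_left s
        rw [← pow_mul, hab.mul_pow, mul_comm i s, pow_mul b, ← hbo, pow_orderOf_eq_one, one_pow,
          mul_one, hbo] at h1
        by_contra hm1
        obtain ⟨k, hk⟩ := exists_pow_eq_self_of_coprime (x := a) (n := s * i)
          (hao.symm ▸ (Nat.Coprime.mul_left ((Nat.coprime_primes hs hr).mpr hrs.symm)
            (hr.coprime_iff_not_dvd.mpr hri).symm))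
        exact hm1 (hfa m hm (hk ▸ h1.pow_left k))
    · intro hle
      obtain ⟨m, hm, hmb⟩ := hbM
      refine hmb ?_
      rw [show m = 1 from mem_bot.mp (h.hfaith ▸ ⟨hMK hm, hle hm⟩)]
      exact Commute.one_right b
  have hav : Commute a v := by
    have h1 := hv'.pow_left s
    rw [hab.mul_pow, ← hbo, pow_orderOf_eq_one, mul_one, hbo] at h1
    obtain ⟨k, hk⟩ := exists_pow_eq_self_of_coprime (x := a) (n := s)
      (hao.symm ▸ (Nat.coprime_primes hs hr).mpr hrs.symm)
    exact hk ▸ h1.pow_left k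
  have hbv : Commute b v := by
    have h1 := hv'.pow_left r
    rw [hab.mul_pow, ← hao, pow_orderOf_eq_one, one_mul, hao] at h1
    obtain ⟨k, hk⟩ := exists_pow_eq_self_of_coprime (x := b) (n := r)
      (hbo.symm ▸ (Nat.coprime_primes hr hs).mpr hrs)
    exact hk ▸ h1.pow_left k
  exact h.triple hrS hsS hrp hsp hrs hao hbo hv hv1 hab hav hbv

theorem noPair_core (h : SetupA S p K V) {q r s : ℕ} (hq : q.Prime) (hr : r.Prime) (hs : s.Prime)
    (hqS : q ∈ S) (hrS : r ∈ S) (hsS : s ∈ S) (hqp : q ≠ p) (hrp : r ≠ p) (hsp : s ≠ p)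
    (hqr : q ≠ r) (hqs : q ≠ s) (hrs : r ≠ s)
    {M : Subgroup G} (hM : Cfsg.IsElementaryAbelian q M) (hMK : M ≤ K)
    (hKM : K ≤ normalizer (M : Set G)) {c d : G} (hc : c ∈ M) (hd : d ∈ M) (hcd : Pair q c d)
    {J : Subgroup G} (hJK : J ≤ K) (hJp : ∀ w : ℕ, w.Prime → w ∣ Nat.card J → w = r ∨ w = s)
    (hpr : ∃ a ∈ J, ∃ b ∈ J, Pair r a b) (hps : ∃ a ∈ J, ∃ b ∈ J, Pair s a b)
    {a : G} (ha : a ∈ J) (hao : orderOf a = r) (haM : ∀ m ∈ M, Commute a m) : False := by
  have hM1 : M ≠ ⊥ := fun hh => by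
    have := hcd.1
    have hc1 : c = 1 := mem_bot.mp (hh ▸ hc)
    rw [hc1, orderOf_one] at this
    exact hq.ne_one this.symm
  obtain ⟨m0, hm0, hm01⟩ := (Subgroup.bot_or_exists_ne_one M).resolve_left hM1
  have hm0o := elem_order hq hM hm0 hm01
  haveI := h.hKs
  have hJs : Group.IsSolvable J := Coprime.isSolvable_of_le hJK h.hKs
  set Jc := J ⊓ centralizer (M : Set G) with hJc
  have hJcn : J ≤ normalizer (Jc : Set G) :=
    le_normalizer_inf_centralizer (hJK.trans hKM) le_normalizer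
  have hJcM : ∀ g ∈ Jc, ∀ m ∈ M, Commute g m := fun g hg m hm =>
    (mem_centralizer_iff.mp hg.2 m hm).symm
  have haJc : a ∈ Jc := ⟨ha, mem_centralizer_iff.mpr fun m hm => (haM m hm).symm.eq⟩
  have hfpf : ∀ t : ℕ, t ∈ S → t ≠ p → t ≠ q → ∀ g ∈ Jc, orderOf g = t →
      ∀ v ∈ V, v ≠ 1 → ¬ Commute g v := fun t htS htp htq g hg hgo =>
    h.in_fpf hq hqS htS htp hqp htq hMK hc hd hcd hgo (hJcM g hg)
  have hnopair : ∀ t : ℕ, t.Prime → t ∈ S → t ≠ p → t ≠ q → ¬ ∃ x ∈ Jc, ∃ y ∈ Jc, Pair t x y := by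
    rintro t ht htS htp htq ⟨x, hx, y, hy, hxy⟩
    obtain ⟨e, he, he1, v, hv, hv1, hev⟩ := hxy.fix ht (h.hKV (hJK hx.1)) (h.hKV (hJK hy.1))
      (elem_not_dvd h.hp ht htp h.hV) h.hV1
    exact hfpf t htS htp htq e (pairGroup_le hx hy he) (hxy.orderOf_eq ht he he1) v hv hv1 hev
  -- `Jc` is an `r`-group
  have hJcr : ∀ g ∈ Jc, orderOf g ≠ s := by
    intro g hg hgo
    obtain ⟨t, U, ht, hU, hU1, hUle, hJU, htd⟩ := exists_elem_normal hJs inf_le_left hJcn
      (fun hh => by
        have hg1 : g = 1 := mem_bot.mp (hh ▸ hg)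
        have := hgo
        rw [hg1, orderOf_one] at this
        exact hs.ne_one this.symm)
    have key : ∀ t t' : ℕ, t.Prime → t'.Prime → t ∈ S → t' ∈ S → t ≠ p → t' ≠ p → t ≠ q → t' ≠ q →
        t ≠ t' → Cfsg.IsElementaryAbelian t U → ∀ d' ∈ Jc, orderOf d' = t' → False := by
      intro t t' ht ht' htS htS' htp htp' htq htq' htt hU d' hd' hd'o
      obtain ⟨u, huo, hUu⟩ := line_of_no_pair ht hU hU1 (fun ⟨x, hx, y, hy, hxy⟩ =>
        hnopair t ht htS htp htq ⟨x, hUle hx, y, hUle hy, hxy⟩)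
      have huU : u ∈ U := hUu ▸ mem_zpowers u
      by_cases hcu : Commute d' u
      · exact h.hT q t t' hqS htS htS' htq.symm htt htq'.symm m0 u d' hm0o huo hd'o
          (hJcM u (hUle huU) m0 hm0).symm (hJcM d' hd' m0 hm0).symm hcu.symm
      · obtain ⟨v, hv, hv1, hdv⟩ := frob_prime V U d' ht' hd'o (elem_commute h.hV)
          (((hUle.trans inf_le_left).trans hJK).trans h.hKV) (h.hKV (hJK hd'.1)) (hJU hd'.1)
          (fun x hx hxc => by
            by_contra hx1
            exact hcu (commute_of_generator ht huo (hUu ▸ hx) hx1 hxc))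
          (elem_coprime h.hp ht htp hU h.hV)
          (fun hle => hU1 (eq_bot_iff.mpr fun x hx => by
            rw [← h.hfaith]; exact ⟨hJK (hUle hx).1, hle hx⟩))
        exact hfpf t' htS' htp' htq' d' hd' hd'o v hv hv1 hdv
    rcases hJp t ht (htd.trans (card_dvd_of_le inf_le_left)) with rfl | rfl
    · exact key t s ht hs hrS hsS hrp hsp hqr.symm hqs.symm hrs hU g hg hgo
    · exact key t r ht hr hsS hrS hsp hrp hqs.symm hqr.symm hrs.symm hU a haJc hao
  have hJcp : IsPGroup r Jc := by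
    haveI := Fact.mk hr
    have hsd : ¬ s ∣ Nat.card Jc := fun hd => by
      haveI := Fact.mk hs
      obtain ⟨g, hg⟩ := exists_prime_orderOf_dvd_card' (G := Jc) s hd
      exact hJcr g g.2 (by rw [Subgroup.orderOf_coe, hg])
    exact IsPGroup.iff_card.mpr ⟨_, Nat.eq_prime_pow_of_unique_prime_dvd Nat.card_pos.ne'
      fun {w} hw hwd => by
        rcases hJp w hw (hwd.trans (card_dvd_of_le inf_le_left)) with h' | h'
        · exact h'
        · exact absurd (h' ▸ hwd) hsd⟩
  have huniq : ∀ x ∈ Jc, orderOf x = r → x ∈ zpowers a := fun x hx hxo =>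
    unique_of_no_pair hr hJcp
      ((exists_pair_or r Jc).resolve_left (hnopair r hr hrS hrp hqr.symm)) a haJc x hx hao hxo
  have han : J ≤ normalizer (zpowers a : Set G) := le_normalizer_of_conj fun g hg x hx => by
    obtain ⟨i, rfl⟩ := mem_zpowers_iff.mp hx
    rw [← conj_zpow]
    exact Subgroup.zpow_mem _ (huniq _ (conj_mem_of_le_normalizer hJcn hg haJc)
      (by rw [← hao]; exact (MulAut.conj g).orderOf_eq a)) i
  obtain ⟨c', hc', d', hd', hcd'⟩ := hps
  -- commuting elements of order `s` centralizing `a` generate the same subgroup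
  have hsame : ∀ e f : G, e ∈ J → f ∈ J → orderOf e = s → orderOf f = s → Commute e a → Commute f a →
      Commute e f → f ∈ zpowers e := by
    intro e f he hf heo hfo hea hfa hef
    by_contra hne
    have hP : Pair s e f := ⟨heo, hfo, hef, hne⟩
    obtain ⟨x, hx, hx1, m, hm, hm1, hxm⟩ := hP.fix hs (hKM (hJK he)) (hKM (hJK hf))
      (elem_not_dvd hq hs hqs.symm hM) hM1
    have hxa : x ∈ centralizer ({a} : Set G) := pairGroup_le
      (mem_centralizer_singleton_iff.mpr hea.eq) (mem_centralizer_singleton_iff.mpr hfa.eq) hx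
    exact h.hT q r s hqS hrS hsS hqr hrs hqs m a x (elem_order hq hM hm hm1) hao (hP.orderOf_eq hs hx hx1)
      (haM m hm).symm hxm.symm (mem_centralizer_singleton_iff.mp hxa).symm
  -- an element of order `s` moving `a`
  obtain ⟨e, he, he1, m, hm, hm1, hem⟩ := hcd'.fix hs (hKM (hJK hc')) (hKM (hJK hd'))
    (elem_not_dvd hq hs hqs.symm hM) hM1
  have heJ : e ∈ J := pairGroup_le hc' hd' he
  have heo := hcd'.orderOf_eq hs he he1
  have hea : ¬ Commute e a := fun hh =>
    h.hT q r s hqS hrS hsS hqr hrs hqs m a e (elem_order hq hM hm hm1) hao heo (haM m hm).symm hem.symm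
      hh.symm
  have hsr : s < r := by
    rcases Nat.lt_or_gt_of_ne hrs with hlt | hlt
    · exact absurd (commute_of_prime_lt hs hr hlt hao heo (han heJ)) hea
    · exact hlt
  have hr2 : r ≠ 2 := by have := hs.two_le; omega
  -- an element `z` of order `s` centralizing `a`
  have hanc : ¬ s ∣ Nat.card (zpowers a) := by
    rw [Nat.card_zpowers, hao]
    exact fun hd => hrs ((Nat.prime_dvd_prime_iff_eq hs hr).mp hd).symm
  obtain ⟨z, hz, hz1, k, hk, hk1, hzk⟩ := hcd'.fix hs (han hc') (han hd') hanc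
    (fun hh => by
      have := zpowers_eq_bot.mp hh
      rw [this, orderOf_one] at hao; exact hr.ne_one hao.symm)
  have hzJ : z ∈ J := pairGroup_le hc' hd' hz
  have hzo := hcd'.orderOf_eq hs hz hz1
  have hza : Commute z a := commute_of_generator hr hao hk hk1 hzk
  have hout : ∀ g ∈ J, orderOf g = s → ∃ m ∈ M, ¬ Commute g m := by
    intro g hg hgo
    by_contra hh
    push Not at hh
    exact hJcr g ⟨hg, mem_centralizer_iff.mpr fun m hm => (hh m hm).symm.eq⟩ hgo
  have hout' : ∀ g ∈ J, orderOf g = r → g ∉ zpowers a → ∃ m ∈ M, ¬ Commute g m := by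
    intro g hg hgo hga
    by_contra hh
    push Not at hh
    exact hga (huniq g ⟨hg, mem_centralizer_iff.mpr fun m hm => (hh m hm).symm.eq⟩ hgo)
  have hboth : ∀ g e : G, g ∈ J → e ∈ J → orderOf g = r → orderOf e = s → Commute g e →
      g ∈ zpowers a := by
    intro g e hg he hgo heo hge
    by_contra hga
    exact h.not_both_out hq hr hs hqS hrS hsS hqp hrp hsp hqr hqs hrs hM hMK hKM (hJK hg) (hJK he)
      hgo heo hge (hout' g hg hgo hga) (hout e he heo)
  -- the core `W`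
  set W := core r J with hW
  have hWJ : W ≤ J := core_le r J
  have hWp : IsPGroup r W := core_isPGroup r J
  have hWs : ¬ s ∣ Nat.card W := by
    haveI := Fact.mk hr
    obtain ⟨n, hn⟩ := IsPGroup.iff_card.mp hWp
    rw [hn]
    exact fun hd => hrs ((Nat.prime_dvd_prime_iff_eq hs hr).mp (hs.dvd_of_dvd_pow hd)).symm
  have hWz : W ≤ centralizer ({z} : Set G) := by
    refine hcd'.gen hs (le_normalizer_core r J hc') (le_normalizer_core r J hd') hWs ?_
    intro f hf hf1 w hw hfw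
    have hfJ : f ∈ J := pairGroup_le hc' hd' hf
    have hfo := hcd'.orderOf_eq hs hf hf1
    by_cases hfa : Commute f a
    · obtain ⟨i, hi⟩ := mem_zpowers_iff.mp (hsame f z hfJ hzJ hfo hzo hfa hza (hcd'.commute hf hz))
      rw [mem_centralizer_singleton_iff, ← hi]
      exact (hfw.zpow_left i).eq.symm
    · rcases eq_or_ne w 1 with rfl | hw1
      · exact one_mem _
      exfalso
      haveI := Fact.mk hr
      obtain ⟨j, hj⟩ := hWp ⟨w, hw⟩
      obtain ⟨i, -, hi⟩ := (Nat.dvd_prime_pow hr).mp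
        (orderOf_dvd_of_pow_eq_one (congrArg Subtype.val hj : w ^ r ^ j = 1))
      obtain ⟨i', rfl⟩ : ∃ i', i = i' + 1 := Nat.exists_eq_succ_of_ne_zero fun h0 =>
        hw1 (orderOf_eq_one_iff.mp (by rw [hi, h0, pow_zero]))
      have hwo : orderOf (w ^ r ^ i') = r := by
        rw [orderOf_pow' w (pow_ne_zero _ hr.ne_zero), hi, Nat.gcd_eq_right (pow_dvd_pow r (Nat.le_succ i')),
          pow_succ]
        exact Nat.mul_div_cancel_left r (pow_pos hr.pos _)
      have hin := hboth _ f (hWJ (W.pow_mem hw _)) hfJ hwo hfo (hfw.pow_right _).symm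
      exact hfa (commute_of_generator hr hao hin
        (fun h0 => by rw [h0, orderOf_one] at hwo; exact hr.ne_one hwo.symm) (hfw.pow_right _))
  have hWuniq : ∀ x ∈ W, orderOf x = r → x ∈ zpowers a := fun x hx hxo =>
    hboth x z (hWJ hx) hzJ hxo hzo (mem_centralizer_singleton_iff.mp (hWz hx))
  -- there is no normal `s`-subgroup
  have hOs : core s J = ⊥ := by
    by_contra hne
    obtain ⟨t, U, ht, hU, hU1, hUle, hJU, htd⟩ := exists_elem_normal hJs (core_le s J)
      (le_normalizer_core s J) hne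
    obtain rfl : t = s := by
      haveI := Fact.mk hs
      obtain ⟨n, hn⟩ := IsPGroup.iff_card.mp (core_isPGroup s J)
      rw [hn] at htd
      exact (Nat.prime_dvd_prime_iff_eq ht hs).mp (ht.dvd_of_dvd_pow htd)
    have hUJ : U ≤ J := hUle.trans (core_le _ J)
    have hcu : ∀ u ∈ U, Commute u a := by
      intro u hu
      have hcop : U ⊓ zpowers a = ⊥ := Coprime.inf_eq_bot_of_coprime_card
        (Nat.coprime_of_dvd fun w hw h1 h2 => by
          rw [Nat.card_zpowers, hao] at h2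
          obtain rfl := (Nat.prime_dvd_prime_iff_eq hw hr).mp h2
          exact elem_not_dvd ht hw hrs hU h1)
      have h1 : u * a * u⁻¹ * a⁻¹ ∈ U ⊓ zpowers a := by
        refine ⟨?_, Subgroup.mul_mem _ (conj_mem_of_le_normalizer han (hUJ hu) (mem_zpowers a))
          (Subgroup.inv_mem _ (mem_zpowers a))⟩
        rw [show u * a * u⁻¹ * a⁻¹ = u * (a * u⁻¹ * a⁻¹) by group]
        exact U.mul_mem hu (conj_mem_of_le_normalizer hJU ha (U.inv_mem hu))
      rw [hcop, mem_bot] at h1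
      exact mul_inv_eq_iff_eq_mul.mp (mul_inv_eq_one.mp h1)
    obtain ⟨u, huo, hUu⟩ := line_of_no_pair ht hU hU1 (fun ⟨x, hx, y, hy, hxy⟩ =>
      hxy.2.2.2 (hsame x y (hUJ hx) (hUJ hy) hxy.1 hxy.2.1 (hcu x hx) (hcu y hy) hxy.2.2.1))
    have huU : u ∈ U := hUu ▸ mem_zpowers u
    obtain ⟨g1, hg1, g2, hg2, hg12⟩ := hpr
    obtain ⟨g, hgP, hga⟩ : ∃ g ∈ pairGroup g1 g2, g ∉ zpowers a := by
      by_contra hh
      push Not at hh
      exact hg12.not_isCyclic hr (isCyclic_of_le hh)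
    have hg1' : g ≠ 1 := fun h0 => hga (h0 ▸ one_mem _)
    have hgJ : g ∈ J := pairGroup_le hg1 hg2 hgP
    have hgo := hg12.orderOf_eq hr hgP hg1'
    exact hga (hboth g u hgJ (hUJ huU) hgo huo
      (commute_of_prime_lt hr ht hsr huo hgo (hUu ▸ hJU hgJ)))
  -- the Fitting subgroup of `J`
  have hWcyc : IsCyclic W := isCyclic_of_no_pair hr hr2 hWp fun x hx y hy hxo hyo _ => by
    have h1 : zpowers x = zpowers a := eq_of_le_of_card_ge (zpowers_le.mpr (hWuniq x hx hxo))
      (by rw [Nat.card_zpowers, Nat.card_zpowers, hxo, hao])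
    rw [h1]; exact hWuniq y hy hyo
  have hF : Cfsg.fittingSubgroup J ≤ Cfsg.pCore r J := by
    refine Cores.fittingSubgroup_le_of_pCore_le fun w hw => ?_
    haveI := Fact.mk hw
    obtain ⟨n, hn⟩ := IsPGroup.iff_card.mp (Cores.pCore_isPGroup w J)
    rcases Nat.eq_zero_or_pos n with rfl | hn0
    · rw [pow_zero] at hn
      rw [eq_bot_of_card_eq _ hn]; exact bot_le
    rcases hJp w hw ((dvd_pow_self w hn0.ne').trans (hn ▸ card_subgroup_dvd_card _)) with rfl | rfl
    · exact le_rfl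
    · have h0 : Cfsg.pCore w J = ⊥ :=
        (map_eq_bot_iff_of_injective _ J.subtype_injective).mp hOs
      rw [h0]; exact bot_le
  have hzF : (⟨z, hzJ⟩ : J) ∈ Cfsg.pCore r J := hF (Cores.centralizer_fittingSubgroup_le hJs
    (mem_centralizer_iff.mpr fun x hx => Subtype.ext
      (mem_centralizer_singleton_iff.mp (hWz ⟨x, hF hx, rfl⟩))))
  obtain ⟨j, hj⟩ := Cores.pCore_isPGroup r J ⟨_, hzF⟩
  have hzpow : z ^ r ^ j = 1 := congrArg (fun x : Cfsg.pCore r J => ((x : J) : G)) hj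
  exact hrs ((Nat.prime_dvd_prime_iff_eq hs hr).mp
    (hs.dvd_of_dvd_pow (hzo ▸ orderOf_dvd_of_pow_eq_one hzpow))).symm

/-- Normal elementary subgroups of `K` contain no pair. -/
theorem noPair (h : SetupA S p K V) {q r s : ℕ} (hq : q.Prime) (hr : r.Prime) (hs : s.Prime)
    (hqS : q ∈ S) (hrS : r ∈ S) (hsS : s ∈ S) (hqp : q ≠ p) (hrp : r ≠ p) (hsp : s ≠ p)
    (hqr : q ≠ r) (hqs : q ≠ s) (hrs : r ≠ s)
    {M : Subgroup G} (hM : Cfsg.IsElementaryAbelian q M) (hMK : M ≤ K)
    (hKM : K ≤ normalizer (M : Set G)) : ¬ ∃ c ∈ M, ∃ d ∈ M, Pair q c d := by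
  rintro ⟨c, hc, d, hd, hcd⟩
  obtain ⟨J, hJK, hJp, hpr, hps, a, ha, b, hb, hao, hbo, hab⟩ := h.hJ r s hr hs hrS hsS hrp hsp hrs
  by_cases haM : ∀ m ∈ M, Commute a m
  · exact h.noPair_core hq hr hs hqS hrS hsS hqp hrp hsp hqr hqs hrs hM hMK hKM hc hd hcd hJK hJp
      hpr hps ha hao haM
  by_cases hbM : ∀ m ∈ M, Commute b m
  · exact h.noPair_core hq hs hr hqS hsS hrS hqp hsp hrp hqs hqr hrs.symm hM hMK hKM hc hd hcd hJK
      (fun w hw hwd => (hJp w hw hwd).symm) hps hpr hb hbo hbM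
  push Not at haM hbM
  exact h.not_both_out hq hr hs hqS hrS hsS hqp hrp hsp hqr hqs hrs hM hMK hKM (hJK ha) (hJK hb)
    hao hbo hab haM hbM

theorem coreCyclic (h : SetupA S p K V) {q r s : ℕ} (hq : q.Prime) (hr : r.Prime) (hs : s.Prime)
    (hqS : q ∈ S) (hrS : r ∈ S) (hsS : s ∈ S) (hqp : q ≠ p) (hrp : r ≠ p) (hsp : s ≠ p)
    (hqr : q ≠ r) (hqs : q ≠ s) (hrs : r ≠ s) : IsCyclic (Cfsg.pCore q K) := by
  classical
  haveI := Fact.mk hq
  haveI := h.hKs
  rw [← isCyclic_core_iff]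
  obtain ⟨J, hJK, hJp, hpr, hps, a, ha, b, hb, hao, hbo, hab⟩ := h.hJ r s hr hs hrS hsS hrp hsp hrs
  by_contra hnc
  set O := core q K with hO
  have hOK : O ≤ K := core_le q K
  by_cases hq2 : q = 2
  · have hO1 : O ≠ ⊥ := fun h0 => hnc (by rw [h0]; exact isCyclic_of_subsingleton)
    obtain ⟨t, U, ht, hU, hU1, hUle, hKU, htd⟩ := exists_elem_normal h.hKs hOK (le_normalizer_core q K) hO1
    obtain rfl : t = q := by
      obtain ⟨n, hn⟩ := IsPGroup.iff_card.mp (core_isPGroup q K)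
      rw [hn] at htd
      exact (Nat.prime_dvd_prime_iff_eq ht hq).mp (ht.dvd_of_dvd_pow htd)
    obtain ⟨u, huo, hUu⟩ := line_of_no_pair ht hU hU1
      (h.noPair ht hr hs hqS hrS hsS hqp hrp hsp hqr hqs hrs hU (hUle.trans hOK) hKU)
    have hlt : ∀ w : ℕ, w.Prime → w ≠ t → t < w := fun w hw hwt => by
      have := hw.two_le
      omega
    exact h.hT t r s hqS hrS hsS hqr hrs hqs u a b huo hao hbo
      (commute_of_prime_lt hr ht (hlt r hr hqr.symm) huo hao (hUu ▸ hKU (hJK ha))).symm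
      (commute_of_prime_lt hs ht (hlt s hs hqs.symm) huo hbo (hUu ▸ hKU (hJK hb))).symm hab
  obtain ⟨z, x, g, hzO, hxO, hgO, hzx, hzn, hgz, hxmod, hcentral, hshear⟩ := exists_shear hq hq2
    (core_isPGroup q K) hOK (le_normalizer_core q K) hnc fun U hU hUO hKU =>
      h.noPair hq hr hs hqS hrS hsS hqp hrp hsp hqr hqs hrs hU (hUO.trans hOK) hKU
  have hzK := hOK hzO
  have hzo := hzx.1
  have hzfix : ∀ v ∈ V, Commute z v → v = 1 := by
    intro v hv hzv
    rcases h.hmin (V ⊓ centralizer (zpowers z : Set G)) inf_le_left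
      (le_normalizer_inf_centralizer hzn h.hKV) with h' | h'
    · refine mem_bot.mp (h' ▸ ⟨hv, mem_centralizer_iff.mpr fun y hy => ?_⟩)
      obtain ⟨i, rfl⟩ := mem_zpowers_iff.mp hy
      exact (hzv.zpow_left i).eq
    · exfalso
      have hzc : z ∈ K ⊓ centralizer (V : Set G) := ⟨hzK, mem_centralizer_iff.mpr fun w hw =>
        (mem_centralizer_iff.mp ((h'.ge hw).2) z (mem_zpowers z)).symm⟩
      rw [h.hfaith, mem_bot] at hzc
      rw [hzc, orderOf_one] at hzo
      exact hq.ne_one hzo.symm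
  have hzO' : ∀ o ∈ O, ∀ w ∈ zpowers z, Commute o w := by
    intro o ho w hw
    have hoz : Commute o z := by
      obtain ⟨i, hi⟩ := (isOfFinOrder_of_finite z).mem_powers_iff_mem_zpowers.mpr
        (conj_mem_of_le_normalizer hzn (hOK ho) (mem_zpowers z))
      -- a `q`-group fixes a group of order `q`
      set α := (zpowers z).normalizerMonoidHom ⟨o, hzn (hOK ho)⟩ with hα
      obtain ⟨j, hj⟩ := core_isPGroup q K ⟨o, ho⟩
      have hαj : α ^ q ^ j = 1 := by
        rw [hα, ← map_pow, show (⟨o, hzn (hOK ho)⟩ : normalizer (zpowers z : Set G)) ^ q ^ j = 1 from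
          Subtype.ext (by rw [SubmonoidClass.coe_pow]; exact congrArg Subtype.val hj), map_one]
      have h1 : α = 1 := by
        obtain ⟨k, -, hk⟩ := (Nat.dvd_prime_pow hq).mp (orderOf_dvd_of_pow_eq_one hαj)
        rcases Nat.eq_zero_or_pos k with rfl | hk0
        · exact orderOf_eq_one_iff.mp hk
        · exfalso
          have hd := hk ▸ (orderOf_dvd_natCard α)
          rw [IsCyclic.card_mulAut, Nat.card_zpowers, hzo, Nat.totient_prime hq] at hd
          have h9 := Nat.le_of_dvd (by have := hq.two_le; omega : 0 < q - 1) ((dvd_pow_self q hk0.ne').trans hd)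
          have := hq.two_le
          omega
      have := congrArg Subtype.val (MulEquiv.congr_fun h1 ⟨z, mem_zpowers z⟩)
      exact mul_inv_eq_iff_eq_mul.mp this
    obtain ⟨i, rfl⟩ := mem_zpowers_iff.mp hw
    exact hoz.zpow_right i
  -- the exponent `q` elements of the second centre
  let X : Subgroup G :=
    { carrier := {y | y ∈ O ∧ y ^ q = 1 ∧ ∀ o ∈ O, o * y * o⁻¹ * y⁻¹ ∈ zpowers z}
      one_mem' := ⟨O.one_mem, one_pow _, fun o _ => by simp⟩
      mul_mem' := fun {y w} hy hw => by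
        refine ⟨O.mul_mem hy.1 hw.1, ?_, fun o ho => ?_⟩
        · set cc := w * y * w⁻¹ * y⁻¹ with hcc
          have hcz : cc ∈ zpowers z := hy.2.2 w hw.1
          have hct : cc ^ q = 1 := by
            obtain ⟨i, hi⟩ := mem_zpowers_iff.mp hcz
            rw [← hi, ← zpow_natCast, ← _root_.zpow_mul, mul_comm, _root_.zpow_mul, zpow_natCast, ← hzo,
              pow_orderOf_eq_one, one_zpow]
          obtain ⟨k, hk⟩ : q ∣ q.choose 2 :=
            hq.dvd_choose_self two_ne_zero (lt_of_le_of_ne hq.two_le (Ne.symm hq2))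
          rw [OddLocal.mul_pow_of_central_commutator (hzO' y hy.1 cc hcz) (hzO' w hw.1 cc hcz)
            (by rw [hcc]; group), hy.2.1, hw.2.1, hk, pow_mul, hct, one_pow, one_mul, one_mul]
        · rw [show o * (y * w) * o⁻¹ * (y * w)⁻¹ =
            (o * y * o⁻¹) * (o * w * o⁻¹ * w⁻¹) * y⁻¹ by group,
            show (o * y * o⁻¹) * (o * w * o⁻¹ * w⁻¹) = (o * w * o⁻¹ * w⁻¹) * (o * y * o⁻¹) from
              (hzO' _ (O.mul_mem (O.mul_mem ho hy.1) (O.inv_mem ho)) _ (hw.2.2 o ho)).eq, mul_assoc]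
          exact Subgroup.mul_mem _ (hw.2.2 o ho) (hy.2.2 o ho)
      inv_mem' := fun {y} hy => by
        refine ⟨O.inv_mem hy.1, by rw [inv_pow, hy.2.1, inv_one], fun o ho => ?_⟩
        have h1 := hzO' y hy.1 _ (Subgroup.inv_mem _ (hy.2.2 o ho))
        have h2 : o * y⁻¹ * o⁻¹ * y⁻¹⁻¹ = (o * y * o⁻¹ * y⁻¹)⁻¹ := by
          calc o * y⁻¹ * o⁻¹ * y⁻¹⁻¹ = y⁻¹ * ((o * y * o⁻¹ * y⁻¹)⁻¹ * y) := by group
            _ = y⁻¹ * (y * (o * y * o⁻¹ * y⁻¹)⁻¹) := by rw [h1.eq]
            _ = _ := by group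
        rw [h2]
        exact Subgroup.inv_mem _ (hy.2.2 o ho) }
  have hXK : X ≤ K := fun y hy => hOK hy.1
  have hXn : K ≤ normalizer (X : Set G) := le_normalizer_of_conj fun k hk y hy => by
    refine ⟨conj_mem_of_le_normalizer (le_normalizer_core q K) hk hy.1,
      by rw [conj_pow, hy.2.1, mul_one, mul_inv_cancel], fun o ho => ?_⟩
    have h1 := hy.2.2 (k⁻¹ * o * k) (by
      have := conj_mem_of_le_normalizer (le_normalizer_core q K) (inv_mem hk) ho
      rwa [inv_inv] at this)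
    have := conj_mem_of_le_normalizer hzn hk h1
    convert this using 1
    group
  have hzX : z ∈ X := ⟨hzO, hzo ▸ pow_orderOf_eq_one z, fun o ho => by
    rw [(hzO' o ho z (mem_zpowers z)).eq, mul_inv_cancel_right, mul_inv_cancel]; exact one_mem _⟩
  have hxX : x ∈ X := ⟨hxO, hzx.2.1 ▸ pow_orderOf_eq_one x, hxmod⟩
  have hzV := h.hKV hzK
  -- every element of `X` outside `⟨z⟩` fixes a vector
  have hXfix : ∀ y ∈ X, y ∉ zpowers z → Pair q z y ∧ ∃ v ∈ V, v ≠ 1 ∧ Commute y v := by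
    intro y hy hyz
    have hyo : orderOf y = q := orderOf_eq_prime hy.2.1 fun h0 => hyz (h0 ▸ one_mem _)
    have hP : Pair q z y := ⟨hzo, hyo, (hzO' y hy.1 z (mem_zpowers z)).symm, hyz⟩
    refine ⟨hP, ?_⟩
    obtain ⟨o, ho, hoy⟩ : ∃ o ∈ O, ¬ Commute o y := by
      by_contra hh
      push Not at hh
      exact hyz (hcentral y hy.1 hy.2.1 hh)
    obtain ⟨m, hm⟩ := (isOfFinOrder_of_finite z).mem_powers_iff_mem_zpowers.mpr (hy.2.2 o ho)
    have hm' : z ^ m = o * y * o⁻¹ * y⁻¹ := hm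
    refine fix_of_shear hq hP (h.hKV (hOK ho)) hzV (h.hKV (hXK hy)) h.hV1
      (elem_not_dvd h.hp hq hqp h.hV) (hzO' o ho z (mem_zpowers z))
      ⟨m, by rw [hm', inv_mul_cancel_right], ?_⟩ hzfix
    rintro ⟨k, rfl⟩
    rw [pow_mul, ← hzo, pow_orderOf_eq_one, one_pow] at hm'
    exact hoy (mul_inv_eq_iff_eq_mul.mp (mul_inv_eq_one.mp hm'.symm))
  -- the centralizer of `z` in `J`
  set Tc := J ⊓ centralizer (zpowers z : Set G) with hTc
  have hTcn : J ≤ normalizer (Tc : Set G) :=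
    le_normalizer_inf_centralizer (hJK.trans hzn) le_normalizer
  have hTcz : ∀ g ∈ Tc, Commute g z := fun g hg =>
    (mem_centralizer_iff.mp hg.2 z (mem_zpowers z)).symm
  have hexists : ∀ t : ℕ, t.Prime → t ≠ q → (∃ a ∈ J, ∃ b ∈ J, Pair t a b) →
      ∃ g ∈ Tc, orderOf g = t := by
    rintro t ht htq ⟨g1, hg1, g2, hg2, hg12⟩
    obtain ⟨e, he, he1, k, hk, hk1, hek⟩ := hg12.fix (K := zpowers z) ht (hzn (hJK hg1)) (hzn (hJK hg2))
      (by rw [Nat.card_zpowers, hzo]; exact fun hd => htq ((Nat.prime_dvd_prime_iff_eq ht hq).mp hd))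
      (fun hh => by rw [zpowers_eq_bot.mp hh, orderOf_one] at hzo; exact hq.ne_one hzo.symm)
    refine ⟨e, ⟨pairGroup_le hg1 hg2 he, mem_centralizer_iff.mpr fun w hw => ?_⟩,
      hg12.orderOf_eq ht he he1⟩
    obtain ⟨i, rfl⟩ := mem_zpowers_iff.mp hw
    exact ((commute_of_generator hq hzo hk hk1 hek).zpow_right i).eq.symm
  haveI : Group.IsSolvable J := Coprime.isSolvable_of_le hJK h.hKs
  obtain ⟨a', ha', ha'o⟩ := hexists r hr hqr.symm hpr
  obtain ⟨t, U, ht, hU, hU1, hUle, hJU, htd⟩ := exists_elem_normal (J := J) (N := Tc) inferInstance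
    inf_le_left hTcn (fun hh => by
      rw [show a' = 1 from mem_bot.mp (hh ▸ ha'), orderOf_one] at ha'o; exact hr.ne_one ha'o.symm)
  have key : ∀ t t' : ℕ, t.Prime → t'.Prime → t ∈ S → t' ∈ S → t ≠ p → t' ≠ p → t ≠ q → t' ≠ q →
      t ≠ t' → Cfsg.IsElementaryAbelian t U → (∃ a ∈ J, ∃ b ∈ J, Pair t' a b) → False := by
    intro t t' ht ht' htS htS' htp htp' htq htq' htt hU hpair
    obtain ⟨d', hd', hd'o⟩ := hexists t' ht' htq' hpair
    have hUz : ∀ u ∈ U, Commute u z := fun u hu => hTcz u (hUle hu)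
    have hUJ : U ≤ J := fun u hu => (hUle hu).1
    have hfpfU : ∀ u ∈ U, Commute d' u → u = 1 := by
      intro u hu hdu
      by_contra hu1
      exact h.hT q t t' hqS htS htS' htq.symm htt htq'.symm z u d' hzo (elem_order ht hU hu hu1) hd'o
        (hUz u hu).symm (hTcz d' hd').symm hdu.symm
    by_cases hUX : ∀ u ∈ U, ∀ y ∈ X, Commute u y
    · obtain ⟨g1, hg1, g2, hg2, hg12⟩ := hpair
      have hXcard : ¬ t' ∣ Nat.card X := by
        have hXp : IsPGroup q X := fun y => ⟨1, Subtype.ext (by simpa using y.2.2.1)⟩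
        obtain ⟨n, hn⟩ := IsPGroup.iff_card.mp hXp
        rw [hn]
        exact fun hd => htq' ((Nat.prime_dvd_prime_iff_eq ht' hq).mp (ht'.dvd_of_dvd_pow hd))
      have hle := hg12.gen ht' (hXn (hJK hg1)) (hXn (hJK hg2)) hXcard (S := zpowers z) ?_
      · exact hzx.2.2.2 (hle hxX)
      intro e he he1 y hy hey
      by_contra hyz
      obtain ⟨hP, v, hv, hv1, hyv⟩ := hXfix y hy hyz
      have heJ : e ∈ J := pairGroup_le hg1 hg2 he
      have heo := hg12.orderOf_eq ht' he he1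
      set Y := V ⊓ centralizer ({y} : Set G) with hY
      have hvY : v ∈ Y := ⟨hv, mem_centralizer_singleton_iff.mpr hyv.eq.symm⟩
      have hYn : ∀ g ∈ K, Commute g y → g ∈ normalizer (Y : Set G) := fun g hg hgy =>
        mem_normalizer_fintype fun w hw =>
          ⟨conj_mem_of_le_normalizer h.hKV hg hw.1, conj_mem_centralizer_singleton hgy hw.2⟩
      by_cases hUY : U ≤ centralizer (Y : Set G)
      · obtain ⟨u, hu, hu1⟩ := (Subgroup.bot_or_exists_ne_one U).resolve_left hU1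
        exact h.triple htS hqS htp hqp htq (elem_order ht hU hu hu1) hP.2.1 hv hv1 (hUX u hu y hy)
          (mem_centralizer_iff.mp (hUY hu) v hvY).symm hyv
      · obtain ⟨w, hw, hw1, hew⟩ := frob_prime Y U e ht' heo
          (fun a ha b hb => elem_commute h.hV a ha.1 b hb.1)
          (fun u hu => hYn u (hJK (hUJ hu)) (hUX u hu y hy)) (hYn e (hJK heJ) hey) (hJU heJ)
          (fun u hu heu => by
            by_contra hu1
            exact h.hT q t t' hqS htS htS' htq.symm htt htq'.symm y u e hP.2.1 (elem_order ht hU hu hu1)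
              heo (hUX u hu y hy).symm hey.symm heu.symm)
          (elem_coprime h.hp ht htp hU (elem_le inf_le_left h.hV)) hUY
        exact h.triple htS' hqS htp' hqp htq' heo hP.2.1 hw.1 hw1 hey hew
          (mem_centralizer_singleton_iff.mp hw.2).symm
    · obtain ⟨v, hv, hv1, hdv⟩ := frob_prime V U d' ht' hd'o (elem_commute h.hV)
        ((hUJ.trans hJK).trans h.hKV) (h.hKV (hJK hd'.1)) (hJU hd'.1) hfpfU
        (elem_coprime h.hp ht htp hU h.hV)
        (fun hle => hU1 (eq_bot_iff.mpr fun u hu => by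
          rw [← h.hfaith]; exact ⟨hJK (hUJ hu), hle hu⟩))
      haveI hZn : ((zpowers z).subgroupOf K).Normal :=
        (normal_subgroupOf_iff_le_normalizer (zpowers_le.mpr hzK)).mpr hzn
      set π := QuotientGroup.mk' ((zpowers z).subgroupOf K) with hπ
      set X' := (X.subgroupOf K).map π with hX'
      set U' := (U.subgroupOf K).map π with hU'
      have hmk : ∀ a b : K, π a = π b ↔ ((a : G) * (b : G)⁻¹) ∈ zpowers z := by
        intro a b
        have h1 : π a = π b ↔ π (a * b⁻¹) = 1 := by rw [map_mul, map_inv, mul_inv_eq_one]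
        rw [h1, hπ, QuotientGroup.mk'_apply, QuotientGroup.eq_one_iff, mem_subgroupOf]
        rfl
      have hXc : ∀ a ∈ X', ∀ b ∈ X', Commute a b := by
        rintro _ ⟨a, ha, rfl⟩ _ ⟨b, hb, rfl⟩
        show π a * π b = π b * π a
        rw [← map_mul, ← map_mul, hmk]
        have h1 := (mem_subgroupOf.mp hb).2.2 a (mem_subgroupOf.mp ha).1
        convert h1 using 1
        simp [mul_assoc]
      obtain ⟨y, hy, hy1, hdy⟩ : ∃ y ∈ X', y ≠ 1 ∧ Commute (π ⟨d', hJK hd'.1⟩) y := by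
        refine frob X' U' (π ⟨d', hJK hd'.1⟩) (n := t') ht'.pos ?_ hXc ?_ ?_ ?_ ?_ ?_ ?_
        · rw [← map_pow, show (⟨d', hJK hd'.1⟩ : K) ^ t' = 1 from Subtype.ext (by
            rw [SubmonoidClass.coe_pow, ← hd'o, pow_orderOf_eq_one]; rfl), map_one]
        · rintro _ ⟨u, hu, rfl⟩
          refine mem_normalizer_fintype ?_
          rintro _ ⟨w, hw, rfl⟩
          exact ⟨u * w * u⁻¹, conj_mem_of_le_normalizer hXn u.2 hw, by simp⟩
        · refine mem_normalizer_fintype ?_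
          rintro _ ⟨w, hw, rfl⟩
          exact ⟨(⟨d', hJK hd'.1⟩ : K) * w * (⟨d', hJK hd'.1⟩ : K)⁻¹,
            conj_mem_of_le_normalizer hXn (hJK hd'.1) hw, by simp⟩
        · refine mem_normalizer_fintype ?_
          rintro _ ⟨w, hw, rfl⟩
          exact ⟨(⟨d', hJK hd'.1⟩ : K) * w * (⟨d', hJK hd'.1⟩ : K)⁻¹,
            conj_mem_of_le_normalizer hJU hd'.1 hw, by simp⟩
        · rintro i hi hit _ ⟨u, hu, rfl⟩ hfix
          rw [← map_pow, ← map_inv, ← map_mul, ← map_mul, hmk] at hfix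
          simp only [Subgroup.coe_mul, SubmonoidClass.coe_pow, Subgroup.coe_inv] at hfix
          have hU'' : d' ^ i * (u : G) * (d' ^ i)⁻¹ * (u : G)⁻¹ ∈ U := U.mul_mem
            (conj_mem_of_le_normalizer hJU (J.pow_mem hd'.1 i) hu) (U.inv_mem hu)
          have hbot : U ⊓ zpowers z = ⊥ := Coprime.inf_eq_bot_of_coprime_card
            (Nat.coprime_of_dvd fun w hw h1 h2 => by
              rw [Nat.card_zpowers, hzo] at h2
              obtain rfl := (Nat.prime_dvd_prime_iff_eq hw hq).mp h2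
              exact elem_not_dvd ht hw htq.symm hU h1)
          have h0 : d' ^ i * (u : G) * (d' ^ i)⁻¹ * (u : G)⁻¹ ∈ U ⊓ zpowers z := ⟨hU'', hfix⟩
          rw [hbot, mem_bot] at h0
          have h1 := h0
          have h2 := hfpfU u hu (commute_of_pow_prime ht' (hd'o ▸ pow_orderOf_eq_one d') hi hit
            (mul_inv_eq_one.mp h1))
          rw [show u = 1 from Subtype.ext h2, map_one]
        · refine Nat.coprime_of_dvd fun w hw h1 h2 => ?_
          haveI : Finite (K ⧸ (zpowers z).subgroupOf K) := inferInstance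
          have h1' : w ∣ Nat.card U := h1.trans ((card_map_dvd _ π).trans
            (Nat.card_congr (subgroupOfEquivOfLe (hUJ.trans hJK)).toEquiv).dvd)
          have h2' : w ∣ Nat.card X := h2.trans ((card_map_dvd _ π).trans
            (Nat.card_congr (subgroupOfEquivOfLe hXK).toEquiv).dvd)
          have hXp : IsPGroup q X := fun y => ⟨1, Subtype.ext (by simpa using y.2.2.1)⟩
          obtain ⟨n, hn⟩ := IsPGroup.iff_card.mp hXp
          rw [hn] at h2'
          obtain rfl := (Nat.prime_dvd_prime_iff_eq hw hq).mp (hw.dvd_of_dvd_pow h2')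
          exact elem_not_dvd ht hw htq.symm hU h1'
        · intro hle
          refine hUX fun u hu y hy => ?_
          rcases eq_or_ne u 1 with rfl | hu1
          · exact Commute.one_left _
          have h1 := mem_centralizer_iff.mp (hle ⟨⟨u, hJK (hUJ hu)⟩, hu, rfl⟩) (π ⟨y, hXK hy⟩)
            ⟨⟨y, hXK hy⟩, hy, rfl⟩
          rw [← map_mul, ← map_mul] at h1
          have h2 := (hmk _ _).mp h1.symm
          exact commute_of_shear ht hq htq hzo (elem_order ht hU hu hu1) (hUz u hu) (by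
            convert h2 using 1
            simp [mul_assoc])
      obtain ⟨⟨y, hyK⟩, hyX, rfl⟩ := hy
      have hyX' : y ∈ X := hyX
      have hyz : y ∉ zpowers z := fun hh => hy1 ((QuotientGroup.eq_one_iff _).mpr hh)
      obtain ⟨hP, -⟩ := hXfix y hyX' hyz
      have h2 : d' * y * d'⁻¹ * y⁻¹ ∈ zpowers z := by
        have h1 := hdy.eq
        rw [← map_mul, ← map_mul] at h1
        have h3 := (hmk _ _).mp h1
        convert h3 using 1
        simp [mul_assoc]
      have hd'y : Commute d' y := commute_of_shear ht' hq htq' hzo hd'o (hTcz d' hd') h2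
      set Y := V ⊓ centralizer ({d'} : Set G) with hY
      have hvY : v ∈ Y := ⟨hv, mem_centralizer_singleton_iff.mpr hdv.eq.symm⟩
      have hYn : ∀ g ∈ K, Commute g d' → g ∈ normalizer (Y : Set G) := fun g hg hgy =>
        mem_normalizer_fintype fun w hw =>
          ⟨conj_mem_of_le_normalizer h.hKV hg hw.1, conj_mem_centralizer_singleton hgy hw.2⟩
      obtain ⟨e, he, he1, w, hw, hw1, hew⟩ := hP.fix hq (hYn z hzK (hTcz d' hd').symm)
        (hYn y hyK hd'y.symm)
        (fun hh => elem_not_dvd h.hp hq hqp h.hV (hh.trans (card_dvd_of_le inf_le_left)))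
        (fun hh => hv1 (mem_bot.mp (hh ▸ hvY)))
      have hed : e ∈ centralizer ({d'} : Set G) := pairGroup_le
        (mem_centralizer_singleton_iff.mpr (hTcz d' hd').symm.eq)
        (mem_centralizer_singleton_iff.mpr hd'y.symm.eq) he
      exact h.triple hqS htS' hqp htp' htq'.symm (hP.orderOf_eq hq he he1) hd'o hw.1 hw1
        (mem_centralizer_singleton_iff.mp hed) hew (mem_centralizer_singleton_iff.mp hw.2).symm
  rcases hJp t ht (htd.trans (card_dvd_of_le inf_le_left)) with rfl | rfl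
  · exact key t s ht hs hrS hsS hrp hsp hqr.symm hqs.symm hrs hU hps
  · exact key t r ht hr hsS hrS hsp hrp hqs.symm hqr.symm hrs.symm hU hpr

/-- The faithful case is impossible. -/
theorem false_of_three (h : SetupA S p K V) {q r s : ℕ} (hq : q.Prime) (hr : r.Prime) (hs : s.Prime)
    (hqS : q ∈ S) (hrS : r ∈ S) (hsS : s ∈ S) (hqp : q ≠ p) (hrp : r ≠ p) (hsp : s ≠ p)
    (hqr : q ≠ r) (hqs : q ≠ s) (hrs : r ≠ s)
    (hK : ∀ w : ℕ, w.Prime → w ∣ Nat.card K → w = q ∨ w = r ∨ w = s) : False := by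
  have hcyc : ∀ w : ℕ, w.Prime → IsCyclic (Cfsg.pCore w K) := by
    intro w hw
    by_cases hd : w ∣ Nat.card K
    · rcases hK w hw hd with rfl | rfl | rfl
      · exact h.coreCyclic hq hr hs hqS hrS hsS hqp hrp hsp hqr hqs hrs
      · exact h.coreCyclic hr hq hs hrS hqS hsS hrp hqp hsp hqr.symm hrs hqs
      · exact h.coreCyclic hs hq hr hsS hqS hrS hsp hqp hrp hqs.symm hrs.symm hqr
    · exact isCyclic_pCore_of_not_dvd hw hd
  have fin : ∀ t u : ℕ, t.Prime → u.Prime → t ∈ S → u ∈ S → t ≠ p → u ≠ p → t ≠ u →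
      (∀ w : ℕ, w.Prime → w ∣ Nat.card K → w ≤ t) → False := by
    intro t u ht hu htS huS htp hup htu hmax
    obtain ⟨J, hJK, -, ⟨a, ha, b, hb, hab⟩, -, -⟩ := h.hJ t u ht hu htS huS htp hup htu
    exact cyclic_cores_false h.hKs ht hmax hcyc (pair_subtype (hJK ha) (hJK hb) hab)
  have hle : ∀ t : ℕ, q ≤ t → r ≤ t → s ≤ t → ∀ w : ℕ, w.Prime → w ∣ Nat.card K → w ≤ t :=
    fun t h1 h2 h3 w hw hwd => by rcases hK w hw hwd with rfl | rfl | rfl <;> assumption
  by_cases h1 : r ≤ q ∧ s ≤ q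
  · exact fin q r hq hr hqS hrS hqp hrp hqr (hle q le_rfl h1.1 h1.2)
  by_cases h2 : q ≤ r ∧ s ≤ r
  · exact fin r q hr hq hrS hqS hrp hqp hqr.symm (hle r h2.1 le_rfl h2.2)
  exact fin s q hs hq hsS hqS hsp hqp hqs.symm (hle s (by omega) (by omega) le_rfl)

end SetupA

end Cfsg.Agent.Lib.PrimeGraphFour
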