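import Cfsg.Agent.Lib.PrimeGraphFour.Basic
import Cfsg.Agent.S0126
import Cfsg.Agent.Lib.Solvable.Nilpotent

/-!
Two commuting elementary modules for a two-prime group without commuting triples.
-/

set_option autoImplicit false

open Subgroup
open scoped commutatorElement

universe u

namespace Cfsg.Agent.Lib.PrimeGraphFour

open Cfsg.Agent.Lib

variable {G : Type u} [Group G] [Finite G]

theorem Pair.exists_mul {t : ℕ} {a b : G} (h : Pair t a b) {e : G} (he : e ∈ pairGroup a b) :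
    ∃ i j : ℕ, i < t ∧ j < t ∧ e = a ^ i * b ^ j := by
  have hle : zpowers b ≤ normalizer (zpowers a : Set G) := by
    refine (zpowers_le.mpr ?_).trans (centralizer_le_normalizer _)
    rw [mem_centralizer_iff]
    intro x hx
    obtain ⟨i, rfl⟩ := mem_zpowers_iff.mp hx
    exact (h.2.2.1.zpow_left i).eq
  obtain ⟨x, hx, y, hy, rfl⟩ := Coprime.exists_mul_of_mem_sup hle he
  have hxa : IsOfFinOrder a := isOfFinOrder_of_finite a
  have hyb : IsOfFinOrder b := isOfFinOrder_of_finite b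
  obtain ⟨i, rfl⟩ := hxa.mem_powers_iff_mem_zpowers.mpr hx
  obtain ⟨j, rfl⟩ := hyb.mem_powers_iff_mem_zpowers.mpr hy
  have ht : 0 < t := h.1 ▸ orderOf_pos a
  refine ⟨i % t, j % t, Nat.mod_lt _ ht, Nat.mod_lt _ ht, ?_⟩
  show a ^ i * b ^ j = _
  rw [← pow_mod_orderOf a i, ← pow_mod_orderOf b j, h.1, h.2.1]

/-- A shear moves every translate of `x` to `x`; so `x` fixes a point as soon as the pair does. -/
theorem fix_of_shear {t : ℕ} (ht : t.Prime) {V : Subgroup G} {z x g : G} (h : Pair t z x)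
    (hgV : g ∈ normalizer (V : Set G)) (hzV : z ∈ normalizer (V : Set G))
    (hxV : x ∈ normalizer (V : Set G)) (hV1 : V ≠ ⊥) (hV : ¬ t ∣ Nat.card V)
    (hgz : Commute g z) (hg : ∃ m : ℕ, g * x * g⁻¹ = z ^ m * x ∧ ¬ t ∣ m)
    (hzfix : ∀ v ∈ V, Commute z v → v = 1) : ∃ v ∈ V, v ≠ 1 ∧ Commute x v := by
  obtain ⟨m, hm, hmt⟩ := hg
  obtain ⟨e, he, he1, v, hv, hv1, hev⟩ := h.fix ht hzV hxV hV hV1
  obtain ⟨i, j, hi, hj, rfl⟩ := h.exists_mul he
  have hj0 : j ≠ 0 := fun h0 => by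
    subst h0
    rw [pow_zero, mul_one] at hev he1
    have hi0 : 0 < i := Nat.pos_of_ne_zero fun h => he1 (by rw [h, pow_zero])
    refine hv1 (hzfix v hv (commute_of_pow_prime ht (h.1 ▸ pow_orderOf_eq_one z) hi0 hi
      (mul_inv_eq_iff_eq_mul.mpr hev.eq)))
  obtain ⟨j', hj'⟩ := Nat.exists_mul_mod_eq_one_of_coprime
    ((ht.coprime_iff_not_dvd.mpr (Nat.not_dvd_of_pos_of_lt (Nat.pos_of_ne_zero hj0) hj)).symm) ht.one_lt
  have hxt : x ^ t = 1 := h.2.1 ▸ pow_orderOf_eq_one x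
  have hzt : z ^ t = 1 := h.1 ▸ pow_orderOf_eq_one z
  have e1 : (z ^ i * x ^ j) ^ j' = z ^ (i * j') * x := by
    rw [(h.2.2.1.pow_pow i j).mul_pow, ← pow_mul, ← pow_mul, ← Nat.mod_add_div (j * j') t, pow_add,
      pow_mul x t, hxt, one_pow, mul_one, hj'.2, pow_one]
  have hshift : ∀ k : ℕ, g ^ k * x * (g ^ k)⁻¹ = z ^ (m * k) * x := by
    intro k
    induction k with
    | zero => simp
    | succ k ih =>
      calc g ^ (k + 1) * x * (g ^ (k + 1))⁻¹ = g * (g ^ k * x * (g ^ k)⁻¹) * g⁻¹ := by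
            rw [pow_succ']; group
        _ = (g * z ^ (m * k)) * x * g⁻¹ := by rw [ih]; group
        _ = z ^ (m * k) * (g * x * g⁻¹) := by rw [(hgz.pow_right _).eq]; group
        _ = z ^ (m * (k + 1)) * x := by rw [hm, ← mul_assoc, ← pow_add, Nat.mul_succ]
  obtain ⟨m', hm'⟩ := Nat.exists_mul_mod_eq_one_of_coprime
    ((ht.coprime_iff_not_dvd.mpr hmt).symm) ht.one_lt
  have hk : g ^ (m' * (i * j')) * x * (g ^ (m' * (i * j')))⁻¹ = z ^ (i * j') * x := by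
    rw [hshift, ← mul_assoc m m', ← Nat.mod_add_div (m * m') t, hm'.2, add_mul, one_mul, pow_add,
      mul_assoc t, pow_mul z t, hzt, one_pow, mul_one]
  set γ := g ^ (m' * (i * j')) with hγ
  have hc : Commute (z ^ (i * j') * x) v := e1 ▸ hev.pow_left j'
  rw [← hk] at hc
  have hγV : γ ∈ normalizer (V : Set G) := pow_mem hgV _
  refine ⟨γ⁻¹ * v * γ, ?_, ?_, ?_⟩
  · have := (mem_normalizer_iff.mp (inv_mem hγV) v).mp hv
    rwa [inv_inv] at this
  · intro h0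
    refine hv1 ?_
    calc v = γ * (γ⁻¹ * v * γ) * γ⁻¹ := by group
      _ = 1 := by rw [h0]; group
  · calc x * (γ⁻¹ * v * γ) = γ⁻¹ * ((γ * x * γ⁻¹) * v) * γ := by group
      _ = γ⁻¹ * (v * (γ * x * γ⁻¹)) * γ := by rw [hc.eq]
      _ = γ⁻¹ * v * γ * x := by group

/-- In a noncyclic odd core: a central line and a sheared partner. -/
theorem exists_shear {t : ℕ} (ht : t.Prime) (h2 : t ≠ 2) {J O : Subgroup G} (hO : IsPGroup t O)
    (hOJ : O ≤ J) (hJO : J ≤ normalizer (O : Set G)) (hnc : ¬ IsCyclic O)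
    (hline : ∀ U : Subgroup G, Cfsg.IsElementaryAbelian t U → U ≤ O → J ≤ normalizer (U : Set G) →
      ¬ ∃ a ∈ U, ∃ b ∈ U, Pair t a b) :
    ∃ z x g : G, z ∈ O ∧ x ∈ O ∧ g ∈ O ∧ Pair t z x ∧ J ≤ normalizer (zpowers z : Set G) ∧
      Commute g z ∧ (∀ o ∈ O, o * x * o⁻¹ * x⁻¹ ∈ zpowers z) ∧
      (∀ y ∈ O, y ^ t = 1 → (∀ o ∈ O, Commute o y) → y ∈ zpowers z) ∧
      ∃ m : ℕ, g * x * g⁻¹ = z ^ m * x ∧ ¬ t ∣ m := by
  classical
  haveI := Fact.mk ht
  obtain ⟨E, hEn, hEe, hEc⟩ := Cfsg.Agent.S0126.result h2 hO hnc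
  haveI := hO.isNilpotent
  let Z0 : Subgroup G :=
    { carrier := {z | z ∈ O ∧ z ^ t = 1 ∧ ∀ o ∈ O, Commute o z}
      one_mem' := ⟨O.one_mem, one_pow _, fun o _ => Commute.one_right o⟩
      mul_mem' := fun {a b} ha hb => ⟨O.mul_mem ha.1 hb.1,
        by rw [(hb.2.2 a ha.1).mul_pow, ha.2.1, hb.2.1, one_mul],
        fun o ho => (ha.2.2 o ho).mul_right (hb.2.2 o ho)⟩
      inv_mem' := fun {a} ha => ⟨O.inv_mem ha.1, by rw [inv_pow, ha.2.1, inv_one],
        fun o ho => (ha.2.2 o ho).inv_right⟩ }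
  have hZ0e : Cfsg.IsElementaryAbelian t Z0 :=
    ⟨⟨⟨fun a b => Subtype.ext (b.2.2.2 a a.2.1).eq⟩⟩, fun a ha => ha.2.1⟩
  have hZ0n : J ≤ normalizer (Z0 : Set G) := le_normalizer_of_conj fun g hg a ha =>
    ⟨conj_mem_of_le_normalizer hJO hg ha.1, by rw [conj_pow, ha.2.1, mul_one, mul_inv_cancel],
      fun o ho => by
        have h1 := ha.2.2 (g⁻¹ * o * g) (by
          have := conj_mem_of_le_normalizer hJO (inv_mem hg) ho
          rwa [inv_inv] at this)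
        show _ * _ = _ * _
        calc o * (g * a * g⁻¹) = g * ((g⁻¹ * o * g) * a) * g⁻¹ := by group
          _ = g * (a * (g⁻¹ * o * g)) * g⁻¹ := by rw [h1.eq]
          _ = g * a * g⁻¹ * o := by group⟩
  -- an element of order `t` in `E` and the centre
  have hE1 : E ≠ ⊥ := fun h => by
    rw [h, Subgroup.card_bot] at hEc
    exact absurd hEc.symm (Nat.one_lt_pow two_ne_zero ht.one_lt).ne'
  haveI := hEn
  obtain ⟨⟨z, hzO⟩, hz, hz1⟩ := (Subgroup.bot_or_exists_ne_one _).resolve_left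
    (Solvable.inf_center_ne_bot hE1)
  have hzt : z ^ t = 1 := congrArg Subtype.val (hEe.2 _ hz.1)
  have hz0 : z ∈ Z0 := ⟨hzO, hzt, fun o ho =>
    congrArg Subtype.val (mem_center_iff.mp hz.2 ⟨o, ho⟩)⟩
  have hz1' : z ≠ 1 := fun h => hz1 (Subtype.ext h)
  have hzo : orderOf z = t := orderOf_eq_prime hzt hz1'
  obtain ⟨a, ha, hZa⟩ := line_of_no_pair ht hZ0e
    (fun h => hz1' (mem_bot.mp (h ▸ hz0))) (hline Z0 hZ0e (fun a ha => ha.1) hZ0n)
  have hZeq : Z0 = zpowers z := by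
    refine (eq_of_le_of_card_ge (zpowers_le.mpr hz0) ?_).symm
    rw [hZa, Nat.card_zpowers, Nat.card_zpowers, ha, hzo]
  -- an element of `E` outside the centre
  obtain ⟨⟨x, hxO⟩, hxE, hxz⟩ : ∃ x ∈ E, (x : G) ∉ zpowers z := by
    by_contra hall
    push Not at hall
    have hle : E.map O.subtype ≤ zpowers z := by
      rintro _ ⟨x, hx, rfl⟩; exact hall x hx
    have := card_le_of_le hle
    rw [card_map_of_injective O.subtype_injective, hEc, Nat.card_zpowers, hzo] at this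
    nlinarith [ht.two_le]
  have hxt : x ^ t = 1 := congrArg Subtype.val (hEe.2 _ hxE)
  have hxo : orderOf x = t := orderOf_eq_prime hxt fun h => hxz (by
    show x ∈ zpowers z; rw [h]; exact one_mem _)
  obtain ⟨g, hg, hgx⟩ : ∃ g ∈ O, ¬ Commute g x := by
    by_contra hall
    push Not at hall
    exact hxz (show x ∈ zpowers z from hZeq ▸ (⟨hxO, hxt, hall⟩ : x ∈ Z0))
  -- `E` modulo the centre is central
  let Zo : Subgroup O := zpowers ⟨z, hzO⟩
  have hZoc : Zo ≤ center O := zpowers_le.mpr hz.2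
  haveI hZon : Zo.Normal := ⟨fun a ha g => by
    rw [mem_center_iff.mp (hZoc ha) g, mul_inv_cancel_right]; exact ha⟩
  set π := QuotientGroup.mk' Zo with hπ
  haveI : Group.IsNilpotent (O ⧸ Zo) := Group.nilpotent_of_surjective π (QuotientGroup.mk'_surjective Zo)
  have hZE : Zo ≤ E := zpowers_le.mpr hz.1
  have hcard : Nat.card (E.map π) = t := by
    have h1 := Cores.card_map_mul_card_inf_ker π E
    rw [hπ, QuotientGroup.ker_mk', inf_eq_right.mpr hZE, hEc, Nat.card_zpowers,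
      show orderOf (⟨z, hzO⟩ : O) = t by rw [Subgroup.orderOf_mk, hzo]] at h1
    exact Nat.eq_of_mul_eq_mul_right ht.pos (h1.trans (pow_two t))
  haveI : (E.map π).Normal := hEn.map π (QuotientGroup.mk'_surjective Zo)
  have hcle : E.map π ≤ center (O ⧸ Zo) := by
    refine inf_eq_left.mp (eq_of_le_of_card_ge inf_le_left ?_)
    have hd := card_dvd_of_le (inf_le_left : E.map π ⊓ center (O ⧸ Zo) ≤ E.map π)
    rw [hcard] at hd ⊢
    rcases ht.eq_one_or_self_of_dvd _ hd with h | h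
    · exact absurd (eq_bot_of_card_eq _ h) (Solvable.inf_center_ne_bot (fun h0 => by
        rw [h0, Subgroup.card_bot] at hcard; exact ht.ne_one hcard.symm))
    · exact h.ge
  have hmem' : ∀ o : O, o * ⟨x, hxO⟩ * o⁻¹ * (⟨x, hxO⟩ : O)⁻¹ ∈ Zo := fun o => by
    rw [← QuotientGroup.eq_one_iff]
    show π _ = 1
    rw [map_mul, map_mul, map_mul, map_inv, map_inv,
      mem_center_iff.mp (hcle ⟨_, hxE, rfl⟩) (π o), mul_inv_cancel_right, mul_inv_cancel]
  have hmem := hmem' ⟨g, hg⟩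
  obtain ⟨m, hm⟩ := (isOfFinOrder_of_finite (⟨z, hzO⟩ : O)).mem_powers_iff_mem_zpowers.mpr hmem
  have hm' : z ^ m = g * x * g⁻¹ * x⁻¹ := by
    have := congrArg Subtype.val hm
    simpa using this
  refine ⟨z, x, g, hzO, hxO, hg, ⟨hzo, hxo, ?_, hxz⟩, hZeq ▸ hZ0n, hz0.2.2 g hg, ?_,
    fun y hy hyt hyc => hZeq ▸ (⟨hy, hyt, hyc⟩ : y ∈ Z0), m, ?_, ?_⟩
  · exact (hz0.2.2 x hxO).symm
  · intro o ho
    obtain ⟨i, hi⟩ := mem_zpowers_iff.mp (hmem' ⟨o, ho⟩)
    exact mem_zpowers_iff.mpr ⟨i, by simpa using congrArg Subtype.val hi⟩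
  · rw [hm', inv_mul_cancel_right]
  · rintro ⟨k, rfl⟩
    rw [pow_mul, hzt, one_pow] at hm'
    exact hgx (mul_inv_eq_iff_eq_mul.mp (mul_inv_eq_one.mp hm'.symm))

/-- No normal elementary subgroup of `J` centralizes a module. -/
theorem caseB_faithful_aux {S : Set ℕ} (hT : NoTriple G S) {p q r s : ℕ} (hp : p.Prime) (hq : q.Prime)
    (hr : r.Prime) (hs : s.Prime) (hpS : p ∈ S) (hqS : q ∈ S) (hrS : r ∈ S) (hsS : s ∈ S)
    (hpq : p ≠ q) (hpr : p ≠ r) (hps : p ≠ s) (hqr : q ≠ r) (hqs : q ≠ s) (hrs : r ≠ s)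
    {J V M U : Subgroup G} (hV : Cfsg.IsElementaryAbelian p V) (hM : Cfsg.IsElementaryAbelian q M)
    (hVM : ∀ v ∈ V, ∀ m ∈ M, Commute v m) (hV1 : V ≠ ⊥) (hM1 : M ≠ ⊥)
    (hJV : J ≤ normalizer (V : Set G)) (hJM : J ≤ normalizer (M : Set G))
    (hpair : ∃ a ∈ J, ∃ b ∈ J, Pair s a b)
    (hU : Cfsg.IsElementaryAbelian r U) (hU1 : U ≠ ⊥) (hUJ : U ≤ J)
    (hJU : J ≤ normalizer (U : Set G)) (hUM : U ≤ centralizer (M : Set G)) : False := by
  obtain ⟨m0, hm0, hm01⟩ := (Subgroup.bot_or_exists_ne_one M).resolve_left hM1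
  have hcm : ∀ a ∈ U, ∀ m ∈ M, Commute a m := fun a ha m hm =>
    (mem_centralizer_iff.mp (hUM ha) m hm).symm
  have hfpfV : ∀ a ∈ U, a ≠ 1 → ∀ v ∈ V, v ≠ 1 → ¬ Commute a v := fun a ha ha1 v hv hv1 hc =>
    hT p q r hpS hqS hrS hpq hqr hpr v m0 a (elem_order hp hV hv hv1) (elem_order hq hM hm0 hm01)
      (elem_order hr hU ha ha1) (hVM v hv m0 hm0) hc.symm (hcm a ha m0 hm0).symm
  obtain ⟨a, hao, hUa⟩ := line_of_no_pair hr hU hU1 (by
    rintro ⟨a, ha, b, hb, hab⟩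
    obtain ⟨e, he, he1, v, hv, hv1, hc⟩ := hab.fix hr (hJV (hUJ ha)) (hJV (hUJ hb))
      (elem_not_dvd hp hr hpr.symm hV) hV1
    exact hfpfV e (pairGroup_le ha hb he) he1 v hv hv1 hc)
  have haU : a ∈ U := hUa ▸ mem_zpowers a
  have ha1 : a ≠ 1 := fun h => by rw [h, orderOf_one] at hao; exact hr.ne_one hao.symm
  obtain ⟨c, hc, d, hd, hcd⟩ := hpair
  obtain ⟨e, he, he1, m, hm, hm1, hem⟩ := hcd.fix hs (hJM hc) (hJM hd)
    (elem_not_dvd hq hs hqs.symm hM) hM1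
  have heJ : e ∈ J := pairGroup_le hc hd he
  have heo := hcd.orderOf_eq hs he he1
  by_cases hea : Commute e a
  · exact hT q r s hqS hrS hsS hqr hrs hqs m a e (elem_order hq hM hm hm1) hao heo
      (hcm a haU m hm).symm hem.symm hea.symm
  · obtain ⟨v, hv, hv1, hev⟩ := frob_prime V U e hs heo (elem_commute hV) (hUJ.trans hJV) (hJV heJ)
      (hJU heJ) (fun u hu huc => by
        by_contra hu1
        refine hea ?_
        rw [hUa] at hu
        obtain ⟨i, rfl⟩ := (isOfFinOrder_of_finite a).mem_powers_iff_mem_zpowers.mpr hu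
        have hi : ¬ r ∣ i := fun hd => hu1 (by
          obtain ⟨k, rfl⟩ := hd
          show a ^ (r * k) = 1
          rw [pow_mul, ← hao, pow_orderOf_eq_one, one_pow])
        obtain ⟨k, hk⟩ := exists_pow_eq_self_of_coprime (x := a) (n := i)
          (hao.symm ▸ (hr.coprime_iff_not_dvd.mpr hi).symm)
        rw [← hk]
        exact Commute.pow_right huc k)
      (elem_coprime hp hr hpr.symm hU hV)
      (fun h => by
        obtain ⟨v, hv, hv1⟩ := (Subgroup.bot_or_exists_ne_one V).resolve_left hV1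
        exact hfpfV a haU ha1 v hv hv1 (mem_centralizer_iff.mp (h haU) v hv).symm)
    exact hT p q s hpS hqS hsS hpq hqs hps v m e (elem_order hp hV hv hv1) (elem_order hq hM hm hm1)
      heo (hVM v hv m hm) hev.symm hem.symm

/-- A normal elementary subgroup of `J` contains no pair. -/
theorem caseB_line {S : Set ℕ} (hT : NoTriple G S) {p q r s : ℕ} (hp : p.Prime) (hq : q.Prime)
    (hr : r.Prime) (hs : s.Prime) (hpS : p ∈ S) (hqS : q ∈ S) (hrS : r ∈ S) (hsS : s ∈ S)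
    (hpq : p ≠ q) (hpr : p ≠ r) (hps : p ≠ s) (hqr : q ≠ r) (hqs : q ≠ s) (hrs : r ≠ s)
    {J V M U : Subgroup G} (hV : Cfsg.IsElementaryAbelian p V) (hM : Cfsg.IsElementaryAbelian q M)
    (hVM : ∀ v ∈ V, ∀ m ∈ M, Commute v m) (hV1 : V ≠ ⊥) (hM1 : M ≠ ⊥)
    (hJV : J ≤ normalizer (V : Set G)) (hJM : J ≤ normalizer (M : Set G))
    (hfM : J ⊓ centralizer (M : Set G) = ⊥)
    (hpair : ∃ a ∈ J, ∃ b ∈ J, Pair s a b)
    (hU : Cfsg.IsElementaryAbelian r U) (hUJ : U ≤ J) (hJU : J ≤ normalizer (U : Set G)) :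
    ¬ ∃ a ∈ U, ∃ b ∈ U, Pair r a b := by
  rintro ⟨a, ha, b, hb, hab⟩
  obtain ⟨c, hc, d, hd, hcd⟩ := hpair
  obtain ⟨e, he, he1, v, hv, hv1, hev⟩ := hcd.fix hs (hJV hc) (hJV hd)
    (elem_not_dvd hp hs hps.symm hV) hV1
  have heJ : e ∈ J := pairGroup_le hc hd he
  have heo := hcd.orderOf_eq hs he he1
  by_cases hall : ∀ u ∈ U, Commute e u
  · set X := V ⊓ centralizer ({e} : Set G) with hX
    have hnorm : ∀ u ∈ U, u ∈ normalizer (X : Set G) := fun u hu => mem_normalizer_fintype fun x hx =>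
      ⟨conj_mem_of_le_normalizer hJV (hUJ hu) hx.1, mem_centralizer_singleton_iff.mpr (by
        have h1 := mem_centralizer_singleton_iff.mp hx.2
        calc u * x * u⁻¹ * e = u * (x * (u⁻¹ * e)) := by group
          _ = u * (x * (e * u⁻¹)) := by rw [((hall u hu).inv_right).eq]
          _ = u * (x * e) * u⁻¹ := by group
          _ = u * (e * x) * u⁻¹ := by rw [h1]
          _ = (u * e) * x * u⁻¹ := by group
          _ = (e * u) * x * u⁻¹ := by rw [(hall u hu).eq]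
          _ = e * (u * x * u⁻¹) := by group)⟩
    obtain ⟨u, hu, hu1, w, hw, hw1, huw⟩ := hab.fix hr (hnorm a ha) (hnorm b hb)
      (fun h => elem_not_dvd hp hr hpr.symm hV (h.trans (card_dvd_of_le inf_le_left)))
      (fun h => hv1 (mem_bot.mp (h ▸ (⟨hv, mem_centralizer_singleton_iff.mpr hev.eq.symm⟩ : v ∈ X))))
    have huU := pairGroup_le ha hb hu
    exact hT p r s hpS hrS hsS hpr hrs hps w u e (elem_order hp hV hw.1 hw1)
      (elem_order hr hU huU hu1) heo huw.symm (mem_centralizer_singleton_iff.mp hw.2)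
      (hall u huU).symm
  · push Not at hall
    obtain ⟨W, hWU, hW1, heW, hWfix⟩ := exists_moved U (elem_commute hU) hs heo (hJU heJ)
      (elem_not_dvd hr hs hrs.symm hU) hall
    have hWM : ¬ W ≤ centralizer (M : Set G) := fun h => hW1 (eq_bot_iff.mpr fun w hw => by
      rw [← hfM]; exact ⟨hUJ (hWU hw), h hw⟩)
    obtain ⟨m, hm, hm1, hem⟩ := frob_prime M W e hs heo (elem_commute hM)
      ((hWU.trans hUJ).trans hJM) (hJM heJ) heW hWfix
      (elem_coprime hq hr hqr.symm (elem_le hWU hU) hM) hWM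
    exact hT p q s hpS hqS hsS hpq hqs hps v m e (elem_order hp hV hv hv1) (elem_order hq hM hm hm1)
      heo (hVM v hv m hm) hev.symm hem.symm

/-- The prime two cannot occur. -/
theorem caseB_ne_two {S : Set ℕ} (hT : NoTriple G S) {p q t : ℕ} (hp : p.Prime) (hq : q.Prime)
    (ht : t.Prime) (hpS : p ∈ S) (hqS : q ∈ S) (htS : t ∈ S)
    (hpq : p ≠ q) (hpt : p ≠ t) (hqt : q ≠ t)
    {J V M : Subgroup G} (hV : Cfsg.IsElementaryAbelian p V) (hM : Cfsg.IsElementaryAbelian q M)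
    (hVM : ∀ v ∈ V, ∀ m ∈ M, Commute v m) (hV1 : V ≠ ⊥) (hM1 : M ≠ ⊥)
    (hJV : J ≤ normalizer (V : Set G)) (hJM : J ≤ normalizer (M : Set G))
    (hfV : J ⊓ centralizer (V : Set G) = ⊥) (hfM : J ⊓ centralizer (M : Set G) = ⊥)
    (hpair : ∃ a ∈ J, ∃ b ∈ J, Pair t a b) : t ≠ 2 := by
  rintro rfl
  obtain ⟨a, ha, b, hb, hab⟩ := hpair
  have two : ∀ W : Subgroup G, W ≠ ⊥ → J ≤ normalizer (W : Set G) → ¬ 2 ∣ Nat.card W →
      J ⊓ centralizer (W : Set G) = ⊥ → ∃ e ∈ pairGroup a b, ∃ f ∈ pairGroup a b, e ≠ 1 ∧ f ≠ 1 ∧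
        e ≠ f ∧ (∃ w ∈ W, w ≠ 1 ∧ Commute e w) ∧ (∃ w ∈ W, w ≠ 1 ∧ Commute f w) := by
    intro W hW hJW hW2 hfW
    obtain ⟨e, he, he1, w, hw, hw1, hew⟩ := hab.fix ht (hJW ha) (hJW hb) hW2 hW
    by_contra hcon
    have hle : W ≤ centralizer ({e} : Set G) := hab.gen ht (hJW ha) (hJW hb) hW2
      fun f hf hf1 k hk hfk => by
        rw [mem_centralizer_singleton_iff]
        by_cases hfe : f = e
        · rw [← hfe]; exact hfk.eq.symm
        · by_cases hk1 : k = 1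
          · rw [hk1, one_mul, mul_one]
          · exact absurd ⟨e, he, f, hf, he1, hf1, Ne.symm hfe, ⟨w, hw, hw1, hew⟩, k, hk, hk1, hfk⟩ hcon
    refine he1 (mem_bot.mp (hfW ▸ (⟨pairGroup_le ha hb he, mem_centralizer_iff.mpr fun k hk => ?_⟩ :
      e ∈ J ⊓ centralizer (W : Set G))))
    exact mem_centralizer_singleton_iff.mp (hle hk)
  obtain ⟨e₁, he₁, e₂, he₂, h11, h21, h12, ⟨v₁, hv₁, hv₁', hc₁⟩, v₂, hv₂, hv₂', hc₂⟩ :=
    two V hV1 hJV (elem_not_dvd hp ht hpt.symm hV) hfV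
  obtain ⟨e₃, he₃, e₄, he₄, h31, h41, h34, ⟨m₃, hm₃, hm₃', hc₃⟩, m₄, hm₄, hm₄', hc₄⟩ :=
    two M hM1 hJM (elem_not_dvd hq ht hqt.symm hM) hfM
  have hdis : ∀ e ∈ pairGroup a b, e ≠ 1 → ∀ v ∈ V, v ≠ 1 → ∀ m ∈ M, m ≠ 1 → Commute e v →
      Commute e m → False := fun e he he1 v hv hv1 m hm hm1 hev hem =>
    hT p q 2 hpS hqS htS hpq hqt hpt v m e (elem_order hp hV hv hv1) (elem_order hq hM hm hm1)
      (hab.orderOf_eq ht he he1) (hVM v hv m hm) hev.symm hem.symm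
  have hcases : ∀ e ∈ pairGroup a b, e ≠ 1 → e = a ∨ e = b ∨ e = a * b := by
    intro e he he1
    obtain ⟨i, j, hi, hj, rfl⟩ := hab.exists_mul he
    interval_cases i <;> interval_cases j <;> simp_all
  rcases hcases e₁ he₁ h11 with rfl | rfl | rfl <;> rcases hcases e₂ he₂ h21 with rfl | rfl | rfl <;>
    first
    | exact h12 rfl
    | (rcases hcases e₃ he₃ h31 with rfl | rfl | rfl <;>
        rcases hcases e₄ he₄ h41 with rfl | rfl | rfl <;>
        first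
        | exact h34 rfl
        | exact hdis _ he₁ h11 v₁ hv₁ hv₁' m₃ hm₃ hm₃' hc₁ hc₃
        | exact hdis _ he₁ h11 v₁ hv₁ hv₁' m₄ hm₄ hm₄' hc₁ hc₄
        | exact hdis _ he₂ h21 v₂ hv₂ hv₂' m₃ hm₃ hm₃' hc₂ hc₃
        | exact hdis _ he₂ h21 v₂ hv₂ hv₂' m₄ hm₄ hm₄' hc₂ hc₄)

theorem pair_subtype {t : ℕ} {J : Subgroup G} {a b : G} (ha : a ∈ J) (hb : b ∈ J) (h : Pair t a b) :
    Pair t (⟨a, ha⟩ : J) (⟨b, hb⟩ : J) := by
  refine ⟨by rw [Subgroup.orderOf_mk, h.1], by rw [Subgroup.orderOf_mk, h.2.1],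
    Subtype.ext h.2.2.1.eq, fun hm => h.2.2.2 ?_⟩
  obtain ⟨i, hi⟩ := mem_zpowers_iff.mp hm
  exact mem_zpowers_iff.mpr ⟨i, congrArg Subtype.val hi⟩

theorem isCyclic_pCore_of_not_dvd {Γ : Type u} [Group Γ] [Finite Γ] {w : ℕ} (hw : w.Prime)
    (h : ¬ w ∣ Nat.card Γ) : IsCyclic (Cfsg.pCore w Γ) := by
  haveI := Fact.mk hw
  obtain ⟨n, hn⟩ := IsPGroup.iff_card.mp (Cores.pCore_isPGroup w Γ)
  have : n = 0 := by
    by_contra h0
    exact h ((dvd_pow_self w h0).trans (hn ▸ Subgroup.card_subgroup_dvd_card _))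
  rw [this, pow_zero] at hn
  haveI := (Nat.card_eq_one_iff_unique.mp hn).1
  exact isCyclic_of_subsingleton

/-- The case of two commuting modules. -/
theorem caseB {S : Set ℕ} (hT : NoTriple G S) {p q r s : ℕ} (hp : p.Prime) (hq : q.Prime)
    (hr : r.Prime) (hs : s.Prime) (hpS : p ∈ S) (hqS : q ∈ S) (hrS : r ∈ S) (hsS : s ∈ S)
    (hpq : p ≠ q) (hpr : p ≠ r) (hps : p ≠ s) (hqr : q ≠ r) (hqs : q ≠ s) (hrs : r ≠ s)
    {J V0 M0 : Subgroup G} (hJs : Group.IsSolvable J)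
    (hJ : ∀ w : ℕ, w.Prime → w ∣ Nat.card J → w = r ∨ w = s)
    (hV0 : Cfsg.IsElementaryAbelian p V0) (hM0 : Cfsg.IsElementaryAbelian q M0)
    (hVM0 : ∀ v ∈ V0, ∀ m ∈ M0, Commute v m) (hV01 : V0 ≠ ⊥) (hM01 : M0 ≠ ⊥)
    (hJV0 : J ≤ normalizer (V0 : Set G)) (hJM0 : J ≤ normalizer (M0 : Set G))
    (hpr' : ∃ a ∈ J, ∃ b ∈ J, Pair r a b) (hps' : ∃ a ∈ J, ∃ b ∈ J, Pair s a b) : False := by
  obtain ⟨V, hVle, hV1, hJV, hVmin⟩ := exists_min_inv hV01 hJV0
  obtain ⟨M, hMle, hM1, hJM, -⟩ := exists_min_inv hM01 hJM0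
  have hV := elem_le hVle hV0
  have hM := elem_le hMle hM0
  have hVM : ∀ v ∈ V, ∀ m ∈ M, Commute v m := fun v hv m hm => hVM0 v (hVle hv) m (hMle hm)
  have hMV : ∀ m ∈ M, ∀ v ∈ V, Commute m v := fun m hm v hv => (hVM v hv m hm).symm
  have faith : ∀ (p' q' : ℕ) (V' M' : Subgroup G), p'.Prime → q'.Prime → p' ∈ S → q' ∈ S →
      p' ≠ q' → p' ≠ r → p' ≠ s → q' ≠ r → q' ≠ s →
      Cfsg.IsElementaryAbelian p' V' → Cfsg.IsElementaryAbelian q' M' →
      (∀ v ∈ V', ∀ m ∈ M', Commute v m) → V' ≠ ⊥ → M' ≠ ⊥ → J ≤ normalizer (V' : Set G) →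
      J ≤ normalizer (M' : Set G) → J ⊓ centralizer (M' : Set G) = ⊥ := by
    intro p' q' V' M' hp' hq' hpS' hqS' h1 h2 h3 h4 h5 hV' hM' hVM' hV1' hM1' hJV' hJM'
    by_contra hne
    obtain ⟨t, U, ht, hU, hU1, hUle, hJU, htd⟩ := exists_elem_normal hJs inf_le_left
      (le_normalizer_inf_centralizer hJM' le_normalizer) hne
    rcases hJ t ht (htd.trans (card_dvd_of_le inf_le_left)) with rfl | rfl
    · exact caseB_faithful_aux hT hp' hq' ht hs hpS' hqS' hrS hsS h1 h2 h3 h4 h5 hrs hV' hM' hVM'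
        hV1' hM1' hJV' hJM' hps' hU hU1 (hUle.trans inf_le_left) hJU (hUle.trans inf_le_right)
    · exact caseB_faithful_aux hT hp' hq' ht hr hpS' hqS' hsS hrS h1 h3 h2 h5 h4 hrs.symm hV' hM' hVM'
        hV1' hM1' hJV' hJM' hpr' hU hU1 (hUle.trans inf_le_left) hJU (hUle.trans inf_le_right)
  have hfM := faith p q V M hp hq hpS hqS hpq hpr hps hqr hqs hV hM hVM hV1 hM1 hJV hJM
  have hfV := faith q p M V hq hp hqS hpS hpq.symm hqr hqs hpr hps hM hV hMV hM1 hV1 hJM hJV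
  have hcyc : ∀ t : ℕ, t = r ∨ t = s → IsCyclic (Cfsg.pCore t J) := by
    intro t ht
    obtain ⟨ht', htS, hpt, hqt, hpair, u, hu, huS, hpu, hqu, htu, hupair⟩ : t.Prime ∧ t ∈ S ∧ p ≠ t ∧
        q ≠ t ∧ (∃ a ∈ J, ∃ b ∈ J, Pair t a b) ∧
        ∃ u, u.Prime ∧ u ∈ S ∧ p ≠ u ∧ q ≠ u ∧ t ≠ u ∧ ∃ a ∈ J, ∃ b ∈ J, Pair u a b := by
      rcases ht with rfl | rfl
      · exact ⟨hr, hrS, hpr, hqr, hpr', s, hs, hsS, hps, hqs, hrs, hps'⟩
      · exact ⟨hs, hsS, hps, hqs, hps', r, hr, hrS, hpr, hqr, hrs.symm, hpr'⟩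
    have ht2 := caseB_ne_two hT hp hq ht' hpS hqS htS hpq hpt hqt hV hM hVM hV1 hM1 hJV hJM hfV hfM hpair
    rw [← isCyclic_core_iff]
    by_contra hnc
    obtain ⟨z, x, g, hz, hx, hg, hzx, hzn, hgz, -, -, hshear⟩ := exists_shear ht' ht2 (core_isPGroup t J)
      (core_le t J) (le_normalizer_core t J) hnc fun U hU hUO hJU =>
        caseB_line hT hp hq ht' hu hpS hqS htS huS hpq hpt hpu hqt hqu htu hV hM hVM hV1 hM1 hJV hJM
          hfM hupair hU (hUO.trans (core_le t J)) hJU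
    have hzJ := core_le t J hz
    have hxJ := core_le t J hx
    have hgJ := core_le t J hg
    have hzfix : ∀ v ∈ V, Commute z v → v = 1 := by
      intro v hv hzv
      rcases hVmin (V ⊓ centralizer (zpowers z : Set G)) inf_le_left
        (le_normalizer_inf_centralizer hzn hJV) with h | h
      · refine mem_bot.mp (h ▸ ⟨hv, mem_centralizer_iff.mpr fun y hy => ?_⟩)
        obtain ⟨i, rfl⟩ := mem_zpowers_iff.mp hy
        exact (hzv.zpow_left i).eq
      · exfalso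
        have hzc : z ∈ J ⊓ centralizer (V : Set G) := ⟨hzJ, mem_centralizer_iff.mpr fun w hw =>
          (mem_centralizer_iff.mp ((h.ge hw).2) z (mem_zpowers z)).symm⟩
        rw [hfV, mem_bot] at hzc
        have := hzx.1
        rw [hzc, orderOf_one] at this
        exact ht'.ne_one this.symm
    -- the same for `M`, with a minimal invariant subgroup
    obtain ⟨M', hM'le, hM'1, hJM', hM'min⟩ := exists_min_inv hM1 hJM
    have hM' := elem_le hM'le hM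
    have hfM' := faith p q V M' hp hq hpS hqS hpq hpr hps hqr hqs hV hM'
      (fun v hv m hm => hVM v hv m (hM'le hm)) hV1 hM'1 hJV hJM'
    have hzfixM : ∀ v ∈ M', Commute z v → v = 1 := by
      intro v hv hzv
      rcases hM'min (M' ⊓ centralizer (zpowers z : Set G)) inf_le_left
        (le_normalizer_inf_centralizer hzn hJM') with h | h
      · refine mem_bot.mp (h ▸ ⟨hv, mem_centralizer_iff.mpr fun y hy => ?_⟩)
        obtain ⟨i, rfl⟩ := mem_zpowers_iff.mp hy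
        exact (hzv.zpow_left i).eq
      · exfalso
        have hzc : z ∈ J ⊓ centralizer (M' : Set G) := ⟨hzJ, mem_centralizer_iff.mpr fun w hw =>
          (mem_centralizer_iff.mp ((h.ge hw).2) z (mem_zpowers z)).symm⟩
        rw [hfM', mem_bot] at hzc
        have := hzx.1
        rw [hzc, orderOf_one] at this
        exact ht'.ne_one this.symm
    obtain ⟨v, hv, hv1, hxv⟩ := fix_of_shear ht' hzx (hJV hgJ) (hJV hzJ) (hJV hxJ) hV1
      (elem_not_dvd hp ht' hpt.symm hV) hgz hshear hzfix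
    obtain ⟨m, hm, hm1, hxm⟩ := fix_of_shear ht' hzx (hJM' hgJ) (hJM' hzJ) (hJM' hxJ) hM'1
      (elem_not_dvd hq ht' hqt.symm hM') hgz hshear hzfixM
    exact hT p q t hpS hqS htS hpq hqt hpt v m x (elem_order hp hV hv hv1) (elem_order hq hM' hm hm1)
      hzx.2.1 (hVM v hv m (hM'le hm)) hxv.symm hxm.symm
  have hcyc' : ∀ w : ℕ, w.Prime → IsCyclic (Cfsg.pCore w J) := fun w hw => by
    by_cases hd : w ∣ Nat.card J
    · exact hcyc w (hJ w hw hd)
    · exact isCyclic_pCore_of_not_dvd hw hd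
  obtain ⟨a, ha, b, hb, hab⟩ := hpr'
  obtain ⟨c, hc, d, hd, hcd⟩ := hps'
  rcases le_total r s with h | h
  · exact cyclic_cores_false hJs hs (fun w hw hwd => by rcases hJ w hw hwd with rfl | rfl <;> omega)
      hcyc' (pair_subtype hc hd hcd)
  · exact cyclic_cores_false hJs hr (fun w hw hwd => by rcases hJ w hw hwd with rfl | rfl <;> omega)
      hcyc' (pair_subtype ha hb hab)

end Cfsg.Agent.Lib.PrimeGraphFour
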