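import Cfsg.Agent.Lib.PrimeGraphFour.CaseA

/-!
A solvable group cannot have four primes pairwise joined and no three of them jointly joined.
-/

set_option autoImplicit false

open Subgroup
open scoped Pointwise

universe u

namespace Cfsg.Agent.Lib.PrimeGraphFour

open Cfsg.Agent.Lib

variable {G : Type u} [Group G] [Finite G]

theorem dvd_card_of_not_dvd_index {w : ℕ} (hw : w.Prime) {X : Subgroup G} (h : ¬ w ∣ X.index)
    (hG : w ∣ Nat.card G) : w ∣ Nat.card X := by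
  rw [← X.card_mul_index] at hG
  exact (hw.dvd_mul.mp hG).resolve_right h

/-- A Hall subgroup of a solvable subgroup, seen in the whole group. -/
theorem exists_hall_le {K : Subgroup G} (hK : Group.IsSolvable K) (P : ℕ → Prop) :
    ∃ J : Subgroup G, J ≤ K ∧ (∀ w : ℕ, w.Prime → w ∣ Nat.card J → P w) ∧
      ∀ w : ℕ, w.Prime → P w → ¬ w ∣ K.index → ¬ w ∣ J.index := by
  haveI := hK
  obtain ⟨J, h1, h2⟩ := Coprime.exists_hall_of_solvable (G := K) P
  refine ⟨J.map K.subtype, map_subtype_le _, fun w hw hwd => h1 w hw ?_, fun w hw hP hwK hwJ => ?_⟩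
  · rwa [card_map_of_injective K.subtype_injective] at hwd
  · rw [index_map_subtype] at hwJ
    exact (hw.dvd_mul.mp hwJ).elim (fun h => h2 w hw h hP) hwK

/-- Elements of order `n` conjugate into a suitable Hall subgroup. -/
theorem exists_conj_mem [Group.IsSolvable G] {X : Subgroup G} (hX : (Nat.card X).Coprime X.index)
    {g : G} (hg : (orderOf g).Coprime X.index) : ∃ g' ∈ X, orderOf g' = orderOf g := by
  obtain ⟨h, hh⟩ := Coprime.exists_le_conj_of_solvable (K := zpowers g) hX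
    (by rwa [Nat.card_zpowers])
  have := hh (mem_zpowers g)
  rw [Coprime.mem_conj_smul] at this
  refine ⟨_, this, ?_⟩
  rw [show h⁻¹ * g * h = MulAut.conj h⁻¹ g by simp]
  exact (MulAut.conj h⁻¹).orderOf_eq g

theorem Pair.map {t : ℕ} {a b : G} (h : Pair t a b) {Γ : Type u} [Group Γ] [Finite Γ] (f : G →* Γ)
    (hf : Function.Injective f) : Pair t (f a) (f b) := by
  refine ⟨by rw [orderOf_injective f hf, h.1], by rw [orderOf_injective f hf, h.2.1],
    h.2.2.1.map f, fun hm => h.2.2.2 ?_⟩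
  obtain ⟨i, hi⟩ := mem_zpowers_iff.mp hm
  exact mem_zpowers_iff.mpr ⟨i, hf (by rw [map_zpow]; exact hi)⟩

/-- A pair conjugates into any Hall subgroup for its prime. -/
theorem exists_pair_mem [Group.IsSolvable G] {t : ℕ} (ht : t.Prime) {X : Subgroup G}
    (hX : (Nat.card X).Coprime X.index) (htX : ¬ t ∣ X.index) {a b : G} (h : Pair t a b) :
    ∃ c ∈ X, ∃ d ∈ X, Pair t c d := by
  haveI := Fact.mk ht
  have hp : IsPGroup t (pairGroup a b) := fun e => ⟨1, Subtype.ext (by simpa using h.props.2 e e.2)⟩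
  obtain ⟨n, hn⟩ := IsPGroup.iff_card.mp hp
  obtain ⟨g, hg⟩ := Coprime.exists_le_conj_of_solvable (K := pairGroup a b) hX
    (hn ▸ (ht.coprime_iff_not_dvd.mpr htX).pow_left n)
  have ha := hg (mem_pairGroup_left a b)
  have hb := hg (mem_pairGroup_right a b)
  rw [Coprime.mem_conj_smul] at ha hb
  refine ⟨_, ha, _, hb, ?_⟩
  have := h.map (MulAut.conj g⁻¹).toMonoidHom (MulAut.conj g⁻¹).injective
  simpa using this

/-- A solvable group has no three primes without mixed commuting elements. -/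
theorem no_three [Group.IsSolvable G] (T : Finset ℕ) (hTp : ∀ t ∈ T, t.Prime) (hT3 : T.card = 3)
    (hex : ∀ t ∈ T, ∃ x : G, orderOf x = t)
    (hno : ∀ t ∈ T, ∀ u ∈ T, t ≠ u → ∀ x y : G, orderOf x = t → orderOf y = u → ¬ Commute x y) :
    False := by
  classical
  obtain ⟨H, hH1, hH2⟩ := Coprime.exists_hall_of_solvable (G := G) (fun w => w ∈ T)
  have hHd : ∀ t ∈ T, t ∣ Nat.card H := fun t ht =>
    dvd_card_of_not_dvd_index (hTp t ht) (fun h => hH2 t (hTp t ht) h ht) (by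
      obtain ⟨x, hx⟩ := hex t ht
      exact hx ▸ orderOf_dvd_natCard x)
  have hHne : H ≠ ⊥ := fun h => by
    obtain ⟨t, ht⟩ : T.Nonempty := Finset.card_pos.mp (by omega)
    have := hHd t ht
    rw [h, Subgroup.card_bot, Nat.dvd_one] at this
    exact (hTp t ht).ne_one this
  have hHs : Group.IsSolvable H := inferInstance
  obtain ⟨t, U, ht, hU, hU1, hUH, hHU, htd⟩ := exists_elem_normal hHs le_rfl le_normalizer hHne
  have htT : t ∈ T := hH1 t ht htd
  obtain ⟨J, hJH, hJ1, hJ2⟩ := exists_hall_le hHs (fun w => w ∈ T.erase t)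
  have hJd : ∀ w ∈ T.erase t, w ∣ Nat.card J := fun w hw => by
    have hwT := Finset.mem_of_mem_erase hw
    refine dvd_card_of_not_dvd_index (hTp w hwT)
      (hJ2 w (hTp w hwT) hw fun h => hH2 w (hTp w hwT) h hwT) ?_
    obtain ⟨x, hx⟩ := hex w hwT
    exact hx ▸ orderOf_dvd_natCard x
  have hJne : J ≠ ⊥ := fun h => by
    obtain ⟨w, hw⟩ : (T.erase t).Nonempty := Finset.card_pos.mp (by
      rw [Finset.card_erase_of_mem htT]; omega)
    have := hJd w hw
    rw [h, Subgroup.card_bot, Nat.dvd_one] at this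
    exact (hTp w (Finset.mem_of_mem_erase hw)).ne_one this
  obtain ⟨v, W, hv, hW, hW1, hWJ, hJW, hvd⟩ :=
    exists_elem_normal (Coprime.isSolvable_of_le hJH hHs) le_rfl le_normalizer hJne
  have hvT' := hJ1 v hv hvd
  have hvT := Finset.mem_of_mem_erase hvT'
  have hvt : v ≠ t := Finset.ne_of_mem_erase hvT'
  have hJU : J ≤ normalizer (U : Set G) := hJH.trans hHU
  obtain ⟨w, hwo, hWw⟩ := line_of_no_pair hv hW hW1 (by
    rintro ⟨a, ha, b, hb, hab⟩
    obtain ⟨e, he, he1, k, hk, hk1, hek⟩ := hab.fix hv (hJU (hWJ ha)) (hJU (hWJ hb))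
      (elem_not_dvd ht hv hvt hU) hU1
    exact hno v hvT t htT hvt e k (hab.orderOf_eq hv he he1) (elem_order ht hU hk hk1) hek)
  have hwW : w ∈ W := hWw ▸ mem_zpowers w
  obtain ⟨u, hu⟩ : ((T.erase t).erase v).Nonempty := Finset.card_pos.mp (by
    rw [Finset.card_erase_of_mem hvT', Finset.card_erase_of_mem htT]; omega)
  have huv : u ≠ v := Finset.ne_of_mem_erase hu
  have hu' := Finset.mem_of_mem_erase hu
  have hut : u ≠ t := Finset.ne_of_mem_erase hu'
  have huT := Finset.mem_of_mem_erase hu'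
  haveI := Fact.mk (hTp u huT)
  obtain ⟨b, hb⟩ := exists_prime_orderOf_dvd_card' (G := J) u (hJd u hu')
  have hbo : orderOf (b : G) = u := by rw [Subgroup.orderOf_coe, hb]
  obtain ⟨k, hk, hk1, hbk⟩ := frob_prime U W (b : G) (hTp u huT) hbo (elem_commute hU)
    (hWJ.trans hJU) (hJU b.2) (hJW b.2)
    (fun x hx hbx => by
      by_contra hx1
      exact hno u huT v hvT huv b x hbo (elem_order hv hW hx hx1) hbx)
    (elem_coprime ht hv hvt hW hU) (fun hle => by
      obtain ⟨k, hk, hk1⟩ := (Subgroup.bot_or_exists_ne_one U).resolve_left hU1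
      exact hno v hvT t htT hvt w k hwo (elem_order ht hU hk hk1)
        (mem_centralizer_iff.mp (hle hwW) k hk).symm)
  exact hno u huT t htT hut b k hbo (elem_order ht hU hk hk1) hbk

/-- Every prime has a pair. -/
theorem exists_pair [Group.IsSolvable G] (S : Finset ℕ) (hSp : ∀ t ∈ S, t.Prime) (hS4 : S.card = 4)
    (hT : NoTriple G (S : Set ℕ))
    (hE : ∀ t ∈ S, ∀ u ∈ S, t ≠ u → ∃ g : G, orderOf g = t * u) {t : ℕ} (htS : t ∈ S) :
    ∃ a b : G, Pair t a b := by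
  classical
  by_contra hno
  have ht := hSp t htS
  haveI := Fact.mk ht
  obtain ⟨P⟩ : Nonempty (Sylow t G) := inferInstance
  have hPi := P.not_dvd_index
  have hPc : (Nat.card (P : Subgroup G)).Coprime (P : Subgroup G).index := P.card_coprime_index
  have huniq := unique_of_no_pair ht P.2
    ((exists_pair_or t (P : Subgroup G)).resolve_left fun ⟨a, _, b, _, h⟩ => hno ⟨a, b, h⟩)
  have hedge : ∀ u ∈ S, u ≠ t → ∃ a b : G, orderOf a = t ∧ orderOf b = u ∧ Commute a b := by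
    intro u hu hut
    obtain ⟨g, hg⟩ := hE t htS u hu hut.symm
    refine ⟨g ^ u, g ^ t, ?_, ?_, Commute.pow_pow (Commute.refl g) u t⟩
    · rw [orderOf_pow_of_dvd (hSp u hu).ne_zero (hg ▸ dvd_mul_left u t), hg,
        Nat.mul_div_cancel _ (hSp u hu).pos]
    · rw [orderOf_pow_of_dvd ht.ne_zero (hg ▸ dvd_mul_right t u), hg, Nat.mul_div_cancel_left _ ht.pos]
  obtain ⟨u₀, hu₀⟩ : (S.erase t).Nonempty := Finset.card_pos.mp (by
    rw [Finset.card_erase_of_mem htS]; omega)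
  obtain ⟨a₀, -, ha₀, -, -⟩ := hedge u₀ (Finset.mem_of_mem_erase hu₀) (Finset.ne_of_mem_erase hu₀)
  obtain ⟨z, hzP, hzo⟩ := exists_conj_mem hPc (g := a₀)
    (by rw [ha₀]; exact ht.coprime_iff_not_dvd.mpr hPi)
  rw [ha₀] at hzo
  refine no_three (G := centralizer ({z} : Set G)) (S.erase t)
    (fun u hu => hSp u (Finset.mem_of_mem_erase hu)) (by rw [Finset.card_erase_of_mem htS]; omega)
    (fun u hu => ?_) (fun u hu v hv huv x y hx hy hxy => ?_)
  · obtain ⟨a, b, ha, hb, hab⟩ := hedge u (Finset.mem_of_mem_erase hu) (Finset.ne_of_mem_erase hu)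
    obtain ⟨g, hg⟩ := Coprime.exists_le_conj_of_solvable (K := zpowers a) hPc
      (by rw [Nat.card_zpowers, ha]; exact ht.coprime_iff_not_dvd.mpr hPi)
    have haP := hg (mem_zpowers a)
    rw [Coprime.mem_conj_smul] at haP
    have hao : orderOf (g⁻¹ * a * g) = t := by
      rw [show g⁻¹ * a * g = MulAut.conj g⁻¹ a by simp, (MulAut.conj g⁻¹).orderOf_eq, ha]
    have hmem := huniq z hzP _ haP hzo hao
    have hc : Commute (g⁻¹ * b * g) (g⁻¹ * a * g) := by
      simpa using hab.symm.map (MulAut.conj g⁻¹).toMonoidHom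
    have hcz := commute_of_generator ht hzo hmem
      (fun h1 => by rw [h1, orderOf_one] at hao; exact ht.ne_one hao.symm) hc
    refine ⟨⟨_, mem_centralizer_singleton_iff.mpr hcz.eq⟩, ?_⟩
    rw [Subgroup.orderOf_mk, show g⁻¹ * b * g = MulAut.conj g⁻¹ b by simp,
      (MulAut.conj g⁻¹).orderOf_eq, hb]
  · exact hT t u v htS (Finset.mem_of_mem_erase hu) (Finset.mem_of_mem_erase hv)
      (Finset.ne_of_mem_erase hu).symm huv (Finset.ne_of_mem_erase hv).symm z x y hzo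
      (by rw [Subgroup.orderOf_coe, hx]) (by rw [Subgroup.orderOf_coe, hy])
      (mem_centralizer_singleton_iff.mp x.2).symm (mem_centralizer_singleton_iff.mp y.2).symm
      (congrArg Subtype.val hxy.eq)

/-- The main argument, with the prime of a normal elementary subgroup singled out. -/
theorem main_aux [Group.IsSolvable G] (S : Finset ℕ) (hSp : ∀ t ∈ S, t.Prime)
    (hGS : ∀ w : ℕ, w.Prime → w ∣ Nat.card G → w ∈ S) (hS4 : S.card = 4)
    (hT : NoTriple G (S : Set ℕ))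
    (hE : ∀ t ∈ S, ∀ u ∈ S, t ≠ u → ∃ g : G, orderOf g = t * u)
    {p q r s : ℕ} (hp : p ∈ S) (hq : q ∈ S) (hr : r ∈ S) (hs : s ∈ S)
    (hpq : p ≠ q) (hpr : p ≠ r) (hps : p ≠ s) (hqr : q ≠ r) (hqs : q ≠ s) (hrs : r ≠ s)
    (hall : ∀ t ∈ S, t = p ∨ t = q ∨ t = r ∨ t = s)
    {V₀ : Subgroup G} (hV₀ : Cfsg.IsElementaryAbelian p V₀) (hV₀1 : V₀ ≠ ⊥) (hV₀n : V₀.Normal) :
    False := by
  classical
  have hKs : ∀ X : Subgroup G, Group.IsSolvable X := fun X => inferInstance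
  obtain ⟨K, hK1, hK2⟩ := Coprime.exists_hall_of_solvable (G := G) (fun w => w ∈ S.erase p)
  have hKi : ∀ w ∈ S, w ≠ p → ¬ w ∣ K.index := fun w hw hwp h =>
    hK2 w (hSp w hw) h (Finset.mem_erase.mpr ⟨hwp, hw⟩)
  -- Hall subgroups for two primes inside `K`
  have hJ : ∀ t u : ℕ, t ∈ S → u ∈ S → t ≠ p → u ≠ p → t ≠ u → ∃ J : Subgroup G, J ≤ K ∧
      (∀ w : ℕ, w.Prime → w ∣ Nat.card J → w = t ∨ w = u) ∧
      (∃ a ∈ J, ∃ b ∈ J, Pair t a b) ∧ (∃ a ∈ J, ∃ b ∈ J, Pair u a b) ∧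
      (∃ a ∈ J, ∃ b ∈ J, orderOf a = t ∧ orderOf b = u ∧ Commute a b) := by
    intro t u htS huS htp hup htu
    obtain ⟨J, hJK, hJ1, hJ2⟩ := exists_hall_le (hKs K) (fun w => w = t ∨ w = u)
    have hJi : ∀ w, w = t ∨ w = u → ¬ w ∣ J.index := fun w hw => by
      have hwS : w ∈ S ∧ w ≠ p := by rcases hw with rfl | rfl <;> exact ⟨‹_›, ‹_›⟩
      exact hJ2 w (hSp w hwS.1) hw (hKi w hwS.1 hwS.2)
    have hJc : (Nat.card J).Coprime J.index :=
      Nat.coprime_of_dvd fun w hw h1 h2 => hJi w (hJ1 w hw h1) h2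
    refine ⟨J, hJK, hJ1, ?_, ?_, ?_⟩
    · obtain ⟨a, b, hab⟩ := exists_pair S hSp hS4 hT hE htS
      exact exists_pair_mem (hSp t htS) hJc (hJi t (Or.inl rfl)) hab
    · obtain ⟨a, b, hab⟩ := exists_pair S hSp hS4 hT hE huS
      exact exists_pair_mem (hSp u huS) hJc (hJi u (Or.inr rfl)) hab
    · obtain ⟨g, hg⟩ := hE t htS u huS htu
      obtain ⟨g', hg'J, hg'o⟩ := exists_conj_mem hJc (g := g) (by
        rw [hg]
        exact Nat.Coprime.mul_left ((hSp t htS).coprime_iff_not_dvd.mpr (hJi t (Or.inl rfl)))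
          ((hSp u huS).coprime_iff_not_dvd.mpr (hJi u (Or.inr rfl))))
      rw [hg] at hg'o
      refine ⟨g' ^ u, J.pow_mem hg'J u, g' ^ t, J.pow_mem hg'J t, ?_, ?_,
        Commute.pow_pow (Commute.refl g') u t⟩
      · rw [orderOf_pow_of_dvd (hSp u huS).ne_zero (hg'o ▸ dvd_mul_left u t), hg'o,
          Nat.mul_div_cancel _ (hSp u huS).pos]
      · rw [orderOf_pow_of_dvd (hSp t htS).ne_zero (hg'o ▸ dvd_mul_right t u), hg'o,
          Nat.mul_div_cancel_left _ (hSp t htS).pos]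
  obtain ⟨V, hVle, hV1, hKV, hVmin⟩ := exists_min_inv (J := K) hV₀1
    (haveI := hV₀n; le_normalizer_of_normal)
  have hV := elem_le hVle hV₀
  have hKmem : ∀ w : ℕ, w.Prime → w ∣ Nat.card K → w ∈ S ∧ w ≠ p := fun w hw hwd =>
    ⟨Finset.mem_of_mem_erase (hK1 w hw hwd), Finset.ne_of_mem_erase (hK1 w hw hwd)⟩
  by_cases hf : K ⊓ centralizer (V : Set G) = ⊥
  · refine SetupA.false_of_three (S := (S : Set ℕ)) (p := p) (K := K) (V := V)
      ⟨hT, hSp p hp, hp, hV, hV1, hKV, hVmin, hf, hKs K, hKmem,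
        fun t u _ _ htS huS => hJ t u htS huS⟩
      (hSp q hq) (hSp r hr) (hSp s hs) hq hr hs hpq.symm hpr.symm hps.symm hqr hqs hrs ?_
    intro w hw hwd
    exact (hall w (hKmem w hw hwd).1).resolve_left (hKmem w hw hwd).2
  · obtain ⟨m, M, hm, hM, hM1, hMle, hKM, hmd⟩ := exists_elem_normal (hKs K) inf_le_left
      (le_normalizer_inf_centralizer hKV le_normalizer) hf
    obtain ⟨hmS, hmp⟩ := hKmem m hm (hmd.trans (card_dvd_of_le inf_le_left))
    obtain ⟨a, b, haS, hbS, hpa, hpb, hma, hmb, hab⟩ : ∃ a b, a ∈ S ∧ b ∈ S ∧ p ≠ a ∧ p ≠ b ∧ m ≠ a ∧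
        m ≠ b ∧ a ≠ b := by
      rcases (hall m hmS).resolve_left hmp with rfl | rfl | rfl
      · exact ⟨r, s, hr, hs, hpr, hps, hqr, hqs, hrs⟩
      · exact ⟨q, s, hq, hs, hpq, hps, hqr.symm, hrs, hqs⟩
      · exact ⟨q, r, hq, hr, hpq, hpr, hqs.symm, hrs.symm, hqr⟩
    obtain ⟨J, hJK, hJ1, hpa', hpb', -⟩ := hJ a b haS hbS hpa.symm hpb.symm hab
    exact caseB hT (hSp p hp) hm (hSp a haS) (hSp b hbS) hp hmS haS hbS hmp.symm hpa hpb hma hmb hab
      (hKs J) hJ1 hV hM (fun v hv x hx => mem_centralizer_iff.mp (hMle hx).2 v hv) hV1 hM1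
      (hJK.trans hKV) (hJK.trans hKM) hpa' hpb'

/-- The criterion for a group with only these primes. -/
theorem false_of_four [Group.IsSolvable G] (S : Finset ℕ) (hSp : ∀ t ∈ S, t.Prime)
    (hGS : ∀ w : ℕ, w.Prime → w ∣ Nat.card G → w ∈ S) (hS4 : S.card = 4)
    (hT : NoTriple G (S : Set ℕ))
    (hE : ∀ t ∈ S, ∀ u ∈ S, t ≠ u → ∃ g : G, orderOf g = t * u) : False := by
  classical
  have hne : (⊤ : Subgroup G) ≠ ⊥ := fun h => by
    obtain ⟨t, ht⟩ : S.Nonempty := Finset.card_pos.mp (by omega)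
    obtain ⟨u, hu⟩ : (S.erase t).Nonempty := Finset.card_pos.mp (by
      rw [Finset.card_erase_of_mem ht]; omega)
    obtain ⟨g, hg⟩ := hE t ht u (Finset.mem_of_mem_erase hu) (Finset.ne_of_mem_erase hu).symm
    have hg1 : g = 1 := mem_bot.mp (h ▸ mem_top g)
    rw [hg1, orderOf_one] at hg
    exact (hSp t ht).ne_one (Nat.eq_one_of_mul_eq_one_right hg.symm)
  obtain ⟨p, V, hp, hV, hV1, -, hn, hpd⟩ :=
    exists_elem_normal (J := (⊤ : Subgroup G)) inferInstance le_rfl le_normalizer hne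
  have hpS : p ∈ S := hGS p hp (by rwa [Subgroup.card_top] at hpd)
  obtain ⟨q, r, s, hqr, hqs, hrs, he⟩ := Finset.card_eq_three.mp
    (show (S.erase p).card = 3 by rw [Finset.card_erase_of_mem hpS]; omega)
  have hmem : ∀ t, t ∈ ({q, r, s} : Finset ℕ) → t ≠ p ∧ t ∈ S := fun t ht => by
    rw [← he] at ht; exact Finset.mem_erase.mp ht
  refine main_aux S hSp hGS hS4 hT hE hpS (hmem q (by simp)).2 (hmem r (by simp)).2 (hmem s (by simp)).2
    (hmem q (by simp)).1.symm (hmem r (by simp)).1.symm (hmem s (by simp)).1.symm hqr hqs hrs ?_ hV hV1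
    ?_
  · intro t ht
    by_cases htp : t = p
    · exact Or.inl htp
    · have : t ∈ S.erase p := Finset.mem_erase.mpr ⟨htp, ht⟩
      rw [he] at this
      simpa [htp] using this
  · exact normalizer_eq_top_iff.mp (top_le_iff.mp hn)

/-- A group with four primes pairwise but not triply joined is not solvable. -/
theorem not_isSolvable (σ : Finset ℕ) (hσ : 4 ≤ σ.card) (hprime : ∀ p ∈ σ, p.Prime)
    (h2 : ∀ p ∈ σ, ∀ q ∈ σ, p ≠ q → ∃ g : G, orderOf g = p * q)
    (h3 : ∀ p ∈ σ, ∀ q ∈ σ, ∀ r ∈ σ, p ≠ q → q ≠ r → p ≠ r → ∀ g : G, orderOf g ≠ p * q * r) :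
    ¬ Group.IsSolvable G := by
  intro hsol
  classical
  obtain ⟨S, hSσ, hS4⟩ := Finset.exists_subset_card_eq hσ
  have hSp : ∀ t ∈ S, t.Prime := fun t ht => hprime t (hSσ ht)
  obtain ⟨H, hH1, hH2⟩ := Coprime.exists_hall_of_solvable (G := G) (fun w => w ∈ S)
  have hHc : (Nat.card H).Coprime H.index :=
    Nat.coprime_of_dvd fun w hw h1 h2 => hH2 w hw h2 (hH1 w hw h1)
  refine false_of_four (G := H) S hSp hH1 hS4 ?_ ?_
  · intro p q r hp hq hr hpq hqr hpr x y z hx hy hz hxy hxz hyz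
    have hpp := hSp p hp
    have hqq := hSp q hq
    have hrr := hSp r hr
    refine h3 p (hSσ hp) q (hSσ hq) r (hSσ hr) hpq hqr hpr ((x * y * z : H) : G) ?_
    rw [Subgroup.orderOf_coe]
    have hxyo : orderOf (x * y) = p * q := by
      rw [hxy.orderOf_mul_eq_mul_orderOf_of_coprime (by
        rw [hx, hy]; exact (Nat.coprime_primes hpp hqq).mpr hpq), hx, hy]
    rw [(hxz.mul_left hyz).orderOf_mul_eq_mul_orderOf_of_coprime (by
      rw [hxyo, hz]
      exact Nat.Coprime.mul_left ((Nat.coprime_primes hpp hrr).mpr hpr)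
        ((Nat.coprime_primes hqq hrr).mpr hqr)), hxyo, hz]
  · intro t ht u hu htu
    obtain ⟨g, hg⟩ := h2 t (hSσ ht) u (hSσ hu) htu
    obtain ⟨g', hg', hg'o⟩ := exists_conj_mem hHc (g := g) (by
      rw [hg]
      exact Nat.Coprime.mul_left ((hSp t ht).coprime_iff_not_dvd.mpr fun h => hH2 t (hSp t ht) h ht)
        ((hSp u hu).coprime_iff_not_dvd.mpr fun h => hH2 u (hSp u hu) h hu))
    exact ⟨⟨g', hg'⟩, by rw [Subgroup.orderOf_mk, hg'o, hg]⟩

end Cfsg.Agent.Lib.PrimeGraphFour
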