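import Cfsg.Agent.Lib.Coprime.Generation
import Cfsg.Agent.Lib.Coprime.Hall
import Cfsg.Prelude.Def_Transfer
import Mathlib.GroupTheory.PGroup

/-!
Tools for solvable groups whose prime graph has many edges but no triangles of elements:
fixed points of Frobenius actions and generation by centralizers of a noncyclic pair.
-/

set_option autoImplicit false

open Subgroup
open scoped commutatorElement

universe u

namespace Cfsg.Agent.Lib.PrimeGraphFour

open Cfsg.Agent.Lib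

/-- An element acting without fixed points on `A`, and fixed-point-freely on `P`, forces `P` to act
trivially on `A`. -/
theorem trivial_of_fpf {A : Type*} [CommGroup A] [Finite A] {Γ : Type*} [Group Γ] [Finite Γ]
    (φ : Γ →* MulAut A) (P : Subgroup Γ) (x : Γ) {n : ℕ} (hn0 : 0 < n) (hn : x ^ n = 1)
    (hxP : x ∈ normalizer (P : Set Γ))
    (hfpf : ∀ i, 0 < i → i < n → ∀ a ∈ P, x ^ i * a * (x ^ i)⁻¹ = a → a = 1)
    (hcop : (Nat.card P).Coprime (Nat.card A)) (hx : ∀ w, φ x w = w → w = 1) :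
    ∀ a ∈ P, ∀ w, φ a w = w := by
  classical
  haveI := Fintype.ofFinite P
  have hnorm : ∀ v : A, ∏ i ∈ Finset.range n, φ (x ^ i) v = 1 := fun v => by
    refine hx _ ?_
    rw [map_prod]
    have h1 := Finset.prod_range_succ (fun i => φ (x ^ i) v) n
    rw [Finset.prod_range_succ', hn, pow_zero] at h1
    simp only [← MulAut.mul_apply, ← map_mul, ← pow_succ']
    exact mul_right_cancel h1
  intro a ha w
  have h1 : ∏ i ∈ Finset.range n, ∏ a : P, φ ((a : Γ) * x ^ i * (a : Γ)⁻¹) w = 1 := by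
    rw [Finset.prod_comm]
    refine Finset.prod_eq_one fun a _ => ?_
    have h2 := congrArg (φ (a : Γ)) (hnorm (φ ((a : Γ)⁻¹) w))
    rw [map_prod, map_one] at h2
    simpa only [← MulAut.mul_apply, ← map_mul, ← mul_assoc] using h2
  have hterm : ∀ i ∈ (Finset.range n).erase 0,
      φ a (∏ c : P, φ ((c : Γ) * x ^ i * (c : Γ)⁻¹) w) = ∏ c : P, φ ((c : Γ) * x ^ i * (c : Γ)⁻¹) w := by
    intro i hi
    rw [Finset.mem_erase, Finset.mem_range] at hi
    have hxi : x ^ i ∈ normalizer (P : Set Γ) := pow_mem hxP i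
    let e : P → P := fun a => ⟨(a : Γ) * x ^ i * (a : Γ)⁻¹ * (x ^ i)⁻¹, by
      rw [mul_assoc (a : Γ), mul_assoc (a : Γ)]
      exact mul_mem a.2 ((Subgroup.mem_normalizer_iff.mp hxi _).mp (inv_mem a.2))⟩
    have he : Function.Injective e := by
      intro a b hab
      have h2 : (a : Γ) * x ^ i * (a : Γ)⁻¹ = (b : Γ) * x ^ i * (b : Γ)⁻¹ :=
        mul_right_cancel (congrArg Subtype.val hab)
      have h3 : x ^ i * ((b : Γ)⁻¹ * a) * (x ^ i)⁻¹ = (b : Γ)⁻¹ * a := by
        calc x ^ i * ((b : Γ)⁻¹ * a) * (x ^ i)⁻¹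
            = (b : Γ)⁻¹ * ((b : Γ) * x ^ i * (b : Γ)⁻¹) * a * (x ^ i)⁻¹ := by group
          _ = (b : Γ)⁻¹ * ((a : Γ) * x ^ i * (a : Γ)⁻¹) * a * (x ^ i)⁻¹ := by rw [h2]
          _ = (b : Γ)⁻¹ * a := by group
      exact Subtype.ext (inv_mul_eq_one.mp
        (hfpf i (Nat.pos_of_ne_zero hi.1) hi.2 _ (mul_mem (inv_mem b.2) a.2) h3)).symm
    have h2 : ∏ c : P, φ ((c : Γ) * x ^ i * (c : Γ)⁻¹) w = ∏ b : P, φ (b : Γ) (φ (x ^ i) w) := by
      refine Fintype.prod_bijective e (Finite.injective_iff_bijective.mp he) _ _ fun a => ?_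
      rw [← MulAut.mul_apply, ← map_mul]
      show _ = φ ((a : Γ) * x ^ i * (a : Γ)⁻¹ * (x ^ i)⁻¹ * x ^ i) w
      rw [inv_mul_cancel_right]
    rw [h2, map_prod]
    refine Fintype.prod_equiv (Equiv.mulLeft (⟨a, ha⟩ : P)) _ _ fun b => ?_
    rw [← MulAut.mul_apply, ← map_mul]
    rfl
  rw [← Finset.mul_prod_erase _ _ (Finset.mem_range.mpr hn0)] at h1
  have h0 : ∏ c : P, φ ((c : Γ) * x ^ 0 * (c : Γ)⁻¹) w = w ^ Nat.card P := by
    simp [Finset.prod_const, Nat.card_eq_fintype_card]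
  rw [h0] at h1
  have hfix : φ a (w ^ Nat.card P) = w ^ Nat.card P := by
    rw [eq_inv_of_mul_eq_one_left h1, map_inv, map_prod, Finset.prod_congr rfl hterm]
  obtain ⟨m, hm⟩ := exists_pow_eq_self_of_coprime
    (x := w) (n := Nat.card P) (hcop.coprime_dvd_right (orderOf_dvd_natCard w))
  rw [← hm, map_pow, hfix]

variable {G : Type u} [Group G] [Finite G]

/-- Fixed points of Frobenius actions inside a group. -/
theorem frob (V P : Subgroup G) (x : G) {n : ℕ} (hn0 : 0 < n) (hn : x ^ n = 1)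
    (hVc : ∀ a ∈ V, ∀ b ∈ V, Commute a b)
    (hPV : P ≤ normalizer (V : Set G)) (hxV : x ∈ normalizer (V : Set G))
    (hxP : x ∈ normalizer (P : Set G))
    (hfpf : ∀ i, 0 < i → i < n → ∀ a ∈ P, x ^ i * a * (x ^ i)⁻¹ = a → a = 1)
    (hcop : (Nat.card P).Coprime (Nat.card V)) (hP : ¬ P ≤ centralizer (V : Set G)) :
    ∃ v ∈ V, v ≠ 1 ∧ Commute x v := by
  by_contra h
  push Not at h
  letI : CommGroup V := { (inferInstance : Group V) with
    mul_comm := fun u v => Subtype.ext (hVc u u.2 v v.2).eq }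
  set N := normalizer (V : Set G) with hN
  have hfix : ∀ w, V.normalizerMonoidHom ⟨x, hxV⟩ w = w → w = 1 := by
    intro w hw
    by_contra hw1
    have h1 : x * (w : G) * x⁻¹ = w := congrArg Subtype.val hw
    exact h w w.2 (fun h0 => hw1 (Subtype.ext h0)) (mul_inv_eq_iff_eq_mul.mp h1)
  refine hP fun a ha => ?_
  have hcard : Nat.card (P.subgroupOf N) = Nat.card P :=
    Nat.card_congr (subgroupOfEquivOfLe hPV).toEquiv
  have hres := trivial_of_fpf V.normalizerMonoidHom (P.subgroupOf N) ⟨x, hxV⟩ hn0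
    (Subtype.ext (by rw [SubmonoidClass.coe_pow]; exact hn))
    (mem_normalizer_iff.mpr fun g => by
      simp only [mem_subgroupOf]
      exact mem_normalizer_iff.mp hxP g)
    (fun i hi hin b hb he => Subtype.ext (hfpf i hi hin b hb (by
      have := congrArg Subtype.val he; simpa using this)))
    (hcard ▸ hcop) hfix ⟨a, hPV ha⟩ ha
  refine mem_centralizer_iff.mpr fun v hv => ?_
  have h1 : a * v * a⁻¹ = v := congrArg Subtype.val (hres ⟨v, hv⟩)
  exact (mul_inv_eq_iff_eq_mul.mp h1).symm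

theorem commute_of_pow_prime {x a : G} {n i : ℕ} (hn : n.Prime) (hx : x ^ n = 1) (hi : 0 < i)
    (hin : i < n) (h : x ^ i * a * (x ^ i)⁻¹ = a) : Commute x a := by
  have hc : Commute (x ^ i) a := mul_inv_eq_iff_eq_mul.mp h
  have hcop : i.Coprime (orderOf x) :=
    (hn.coprime_iff_not_dvd.mpr (Nat.not_dvd_of_pos_of_lt hi hin)).symm.coprime_dvd_right
      (orderOf_dvd_of_pow_eq_one hx)
  obtain ⟨m, hm⟩ := exists_pow_eq_self_of_coprime (x := x) hcop
  rw [← hm]
  exact hc.pow_left m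

/-- Fixed points of Frobenius actions, prime order operator. -/
theorem frob_prime (V P : Subgroup G) (x : G) {n : ℕ} (hn : n.Prime) (hx : orderOf x = n)
    (hVc : ∀ a ∈ V, ∀ b ∈ V, Commute a b)
    (hPV : P ≤ normalizer (V : Set G)) (hxV : x ∈ normalizer (V : Set G))
    (hxP : x ∈ normalizer (P : Set G)) (hfpf : ∀ a ∈ P, Commute x a → a = 1)
    (hcop : (Nat.card P).Coprime (Nat.card V)) (hP : ¬ P ≤ centralizer (V : Set G)) :
    ∃ v ∈ V, v ≠ 1 ∧ Commute x v :=
  frob V P x hn.pos (hx ▸ pow_orderOf_eq_one x) hVc hPV hxV hxP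
    (fun _ hi hin a ha h => hfpf a ha
      (commute_of_pow_prime hn (hx ▸ pow_orderOf_eq_one x) hi hin h)) hcop hP

/-- A pair of independent commuting elements of order `t`. -/
def Pair (t : ℕ) (a b : G) : Prop :=
  orderOf a = t ∧ orderOf b = t ∧ Commute a b ∧ b ∉ zpowers a

/-- The group generated by a pair. -/
def pairGroup (a b : G) : Subgroup G := zpowers a ⊔ zpowers b

theorem mem_pairGroup_left (a b : G) : a ∈ pairGroup a b := mem_sup_left (mem_zpowers a)

theorem mem_pairGroup_right (a b : G) : b ∈ pairGroup a b := mem_sup_right (mem_zpowers b)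

theorem pairGroup_le {a b : G} {H : Subgroup G} (ha : a ∈ H) (hb : b ∈ H) : pairGroup a b ≤ H :=
  sup_le (zpowers_le.mpr ha) (zpowers_le.mpr hb)

theorem Pair.props {t : ℕ} {a b : G} (h : Pair t a b) :
    IsMulCommutative (pairGroup a b) ∧ (∀ e ∈ pairGroup a b, e ^ t = 1) := by
  obtain ⟨ha, hb, hab, -⟩ := h
  have hB : pairGroup a b = closure ({a, b} : Set G) := by
    rw [pairGroup, zpowers_eq_closure, zpowers_eq_closure, ← closure_union, Set.singleton_union]
  have hc : IsMulCommutative (closure ({a, b} : Set G)) := isMulCommutative_closure (by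
    rintro x (rfl | rfl) y (rfl | rfl)
    exacts [rfl, hab.eq, hab.symm.eq, rfl])
  rw [hB]
  refine ⟨hc, fun e he => ?_⟩
  induction he using closure_induction with
  | mem x hx =>
    rcases hx with rfl | rfl
    · exact ha ▸ pow_orderOf_eq_one _
    · exact hb ▸ pow_orderOf_eq_one _
  | one => exact one_pow _
  | mul x y hx hy ihx ihy =>
    rw [(show Commute x y from congrArg Subtype.val (hc.1.comm ⟨x, hx⟩ ⟨y, hy⟩)).mul_pow, ihx, ihy,
      one_mul]
  | inv x _ ihx => rw [inv_pow, ihx, inv_one]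

theorem Pair.commute {t : ℕ} {a b : G} (h : Pair t a b) {e f : G} (he : e ∈ pairGroup a b)
    (hf : f ∈ pairGroup a b) : Commute e f :=
  congrArg Subtype.val (h.props.1.1.comm ⟨e, he⟩ ⟨f, hf⟩)

theorem Pair.orderOf_eq {t : ℕ} (ht : t.Prime) {a b : G} (h : Pair t a b) {e : G}
    (he : e ∈ pairGroup a b) (he1 : e ≠ 1) : orderOf e = t :=
  haveI := Fact.mk ht
  orderOf_eq_prime (h.props.2 e he) he1

theorem Pair.not_isCyclic {t : ℕ} (ht : t.Prime) {a b : G} (h : Pair t a b) :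
    ¬ IsCyclic (pairGroup a b) := by
  haveI := Fact.mk ht
  intro hc
  obtain ⟨⟨g, hg⟩, hgen⟩ := hc.exists_generator
  have hle : pairGroup a b ≤ zpowers g := fun e he => by
    obtain ⟨i, hi⟩ := mem_zpowers_iff.mp (hgen ⟨e, he⟩)
    exact mem_zpowers_iff.mpr ⟨i, congrArg Subtype.val hi⟩
  refine h.2.2.2 ?_
  have hcard : Nat.card (zpowers g) ≤ Nat.card (zpowers a) := by
    rw [Nat.card_zpowers, Nat.card_zpowers, h.1]
    exact Nat.le_of_dvd ht.pos (orderOf_dvd_of_pow_eq_one (h.props.2 g hg))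
  rw [eq_of_le_of_card_ge ((zpowers_le.mpr (mem_pairGroup_left a b)).trans hle) hcard]
  exact hle (mem_pairGroup_right a b)

/-- Generation by centralizers of the elements of a pair. -/
theorem Pair.gen {t : ℕ} (ht : t.Prime) {a b : G} (h : Pair t a b) {K S : Subgroup G}
    (haK : a ∈ normalizer (K : Set G)) (hbK : b ∈ normalizer (K : Set G))
    (hK : ¬ t ∣ Nat.card K)
    (hS : ∀ e ∈ pairGroup a b, e ≠ 1 → ∀ k ∈ K, Commute e k → k ∈ S) : K ≤ S := by
  haveI := Fact.mk ht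
  haveI := h.props.1
  have hcop : (Nat.card (pairGroup a b)).Coprime (Nat.card K) := by
    have hp : IsPGroup t (pairGroup a b) := fun e =>
      ⟨1, Subtype.ext (by simpa using h.props.2 e e.2)⟩
    obtain ⟨n, hn⟩ := IsPGroup.iff_card.mp hp
    rw [hn]
    exact ((ht.coprime_iff_not_dvd.mpr hK)).pow_left n
  rw [← Coprime.iSup_centralizer_eq (A := pairGroup a b) (K := K) (h.not_isCyclic ht)
    (pairGroup_le haK hbK) hcop]
  exact iSup₂_le fun e he k hk => hS e he.1 he.2 k hk.1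
    (mem_centralizer_singleton_iff.mp hk.2).symm

/-- Some element of a pair fixes a point. -/
theorem Pair.fix {t : ℕ} (ht : t.Prime) {a b : G} (h : Pair t a b) {K : Subgroup G}
    (haK : a ∈ normalizer (K : Set G)) (hbK : b ∈ normalizer (K : Set G))
    (hK : ¬ t ∣ Nat.card K) (hK1 : K ≠ ⊥) :
    ∃ e ∈ pairGroup a b, e ≠ 1 ∧ ∃ k ∈ K, k ≠ 1 ∧ Commute e k := by
  by_contra hcon
  push Not at hcon
  exact hK1 (eq_bot_iff.mpr (h.gen ht haK hbK hK fun e he he1 k hk hc => by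
    rw [mem_bot]; by_contra hk1; exact hcon e he he1 k hk hk1 hc))

/-- Either a subgroup contains a pair, or commuting elements of order `t` in it generate the same
subgroup. -/
theorem exists_pair_or (t : ℕ) (X : Subgroup G) :
    (∃ a ∈ X, ∃ b ∈ X, Pair t a b) ∨
      ∀ a ∈ X, ∀ b ∈ X, orderOf a = t → orderOf b = t → Commute a b → b ∈ zpowers a := by
  by_cases h : ∃ a ∈ X, ∃ b ∈ X, Pair t a b
  · exact Or.inl h
  · exact Or.inr fun a ha b hb h1 h2 h3 => by_contra fun h4 => h ⟨a, ha, b, hb, h1, h2, h3, h4⟩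

/-- A nontrivial operator on an abelian group moves a subgroup without fixed points. -/
theorem exists_moved (U : Subgroup G) (hUc : ∀ a ∈ U, ∀ b ∈ U, Commute a b) {e : G} {s : ℕ}
    (hs : s.Prime) (he : orderOf e = s) (heU : e ∈ normalizer (U : Set G))
    (hcop : ¬ s ∣ Nat.card U) (hne : ∃ u ∈ U, ¬ Commute e u) :
    ∃ W : Subgroup G, W ≤ U ∧ W ≠ ⊥ ∧ e ∈ normalizer (W : Set G) ∧
      ∀ w ∈ W, Commute e w → w = 1 := by
  have hconj : ∀ u ∈ U, e * u * e⁻¹ ∈ U := fun u hu => (mem_normalizer_iff.mp heU u).mp hu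
  have hinU : ∀ u ∈ U, e * u * e⁻¹ * u⁻¹ ∈ U := fun u hu => mul_mem (hconj u hu) (inv_mem hu)
  let W : Subgroup G :=
    { carrier := {w | ∃ u ∈ U, w = e * u * e⁻¹ * u⁻¹}
      one_mem' := ⟨1, U.one_mem, by group⟩
      mul_mem' := by
        rintro _ _ ⟨u, hu, rfl⟩ ⟨v, hv, rfl⟩
        refine ⟨u * v, U.mul_mem hu hv, ?_⟩
        have hcu := (hUc _ (inv_mem hu) _ (hinU v hv)).eq
        calc e * u * e⁻¹ * u⁻¹ * (e * v * e⁻¹ * v⁻¹)
            = e * u * e⁻¹ * (u⁻¹ * (e * v * e⁻¹ * v⁻¹)) := by group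
          _ = e * u * e⁻¹ * ((e * v * e⁻¹ * v⁻¹) * u⁻¹) := by rw [hcu]
          _ = e * (u * v) * e⁻¹ * (v⁻¹ * u⁻¹) := by group
          _ = _ := by group
      inv_mem' := by
        rintro _ ⟨u, hu, rfl⟩
        refine ⟨u⁻¹, U.inv_mem hu, ?_⟩
        have hcu := (hUc _ hu _ (inv_mem (hconj u hu))).eq
        calc (e * u * e⁻¹ * u⁻¹)⁻¹ = u * (e * u * e⁻¹)⁻¹ := by group
          _ = (e * u * e⁻¹)⁻¹ * u := hcu
          _ = _ := by group }
  refine ⟨W, ?_, ?_, ?_, ?_⟩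
  · rintro _ ⟨u, hu, rfl⟩
    exact hinU u hu
  · obtain ⟨u, hu, hnc⟩ := hne
    intro h
    refine hnc (mul_inv_eq_iff_eq_mul.mp (mul_inv_eq_one.mp ?_))
    exact mem_bot.mp (h ▸ (⟨u, hu, rfl⟩ : e * u * e⁻¹ * u⁻¹ ∈ W))
  · refine mem_normalizer_fintype ?_
    rintro _ ⟨u, hu, rfl⟩
    exact ⟨e * u * e⁻¹, hconj u hu, by group⟩
  · rintro _ ⟨u, hu, rfl⟩ hc
    set w := e * u * e⁻¹ * u⁻¹ with hw
    have h1 : ∀ k : ℕ, e ^ k * u * (e ^ k)⁻¹ = w ^ k * u := by
      intro k
      induction k with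
      | zero => simp
      | succ k ih =>
        rw [pow_succ', mul_inv_rev, show e * e ^ k * u * ((e ^ k)⁻¹ * e⁻¹) =
          e * (e ^ k * u * (e ^ k)⁻¹) * e⁻¹ by group, ih,
          show e * (w ^ k * u) * e⁻¹ = (e * w ^ k) * e⁻¹ * (e * u * e⁻¹) by group, (hc.pow_right k).eq,
          mul_inv_cancel_right, show e * u * e⁻¹ = w * u by rw [hw]; group, ← mul_assoc, ← pow_succ]
    have h2 := h1 s
    rw [← he, pow_orderOf_eq_one, one_mul, inv_one, mul_one, he] at h2
    have h3 : w ^ s = 1 := mul_eq_right.mp h2.symm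
    have hwU : w ∈ U := hinU u hu
    rcases hs.eq_one_or_self_of_dvd _ (orderOf_dvd_of_pow_eq_one h3) with h | h
    · exact orderOf_eq_one_iff.mp h
    · exact absurd (h ▸ _root_.Subgroup.orderOf_dvd_natCard U hwU) hcop

end Cfsg.Agent.Lib.PrimeGraphFour
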